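import Groth.Agent.Ref1Lib.DivMod

/-!
# The module of a Weil divisor is reflexive of rank one
-/

set_option autoImplicit false
set_option linter.style.haveILetI false
set_option maxHeartbeats 1000000
universe u

open CategoryTheory AlgebraicGeometry TopologicalSpace Opposite

noncomputable section

namespace Ref1Lib

open RefHullLib (specializes_generic mem_of_nonempty)

variable {X : Scheme.{u}} [IsIntegral X] [IsLocallyNoetherian X] (hX : Pi1.IsNormalScheme X)

theorem exists_section_of_reg' {U : X.Opens} (hη : genericPoint X ∈ U) (f : X.functionField)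
    (h : ∀ x ∈ U, CDivCoreLib.Reg f x) : ∃ r : Γ(X, U), X.presheaf.germ U _ hη r = f := by
  classical
  let κ := {V : X.Opens // ∃ (_ : V ≤ U) (a : Γ(X, V)), ∀ hV : genericPoint X ∈ V,
    X.presheaf.germ V _ hV a = f}
  choose hle a ha using fun V : κ => V.2
  have hcov : U ≤ ⨆ V : κ, V.1 := fun x hx => by
    obtain ⟨b, hb⟩ := h x hx
    obtain ⟨V, hxV, c, rfl⟩ := X.presheaf.exists_germ_eq b
    refine Opens.mem_iSup.mpr ⟨⟨U ⊓ V, inf_le_left, X.presheaf.map (homOfLE inf_le_right).op c,
      fun hV => ?_⟩, hx, hxV⟩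
    rw [TopCat.Presheaf.germ_res_apply, ← hb, CDivCoreLib.algebraMap_germ hxV (mem_of_nonempty hxV)]
  have hcompat : ∀ V W : κ, X.presheaf.map (homOfLE (inf_le_left : V.1 ⊓ W.1 ≤ V.1)).op (a V) =
      X.presheaf.map (homOfLE (inf_le_right : V.1 ⊓ W.1 ≤ W.1)).op (a W) := fun V W => by
    refine TopCat.Presheaf.section_ext X.sheaf _ _ _ fun y hy => ?_
    haveI : Nonempty (V.1 ⊓ W.1 : X.Opens) := ⟨⟨y, hy⟩⟩
    refine congrArg _ (germ_injective_of_isIntegral X (genericPoint X) (mem_of_nonempty hy) ?_)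
    rw [TopCat.Presheaf.germ_res_apply, TopCat.Presheaf.germ_res_apply, ha, ha]
  obtain ⟨g, hg, -⟩ := X.sheaf.existsUnique_gluing' (fun V : κ => V.1) U (fun V => homOfLE (hle V)) hcov a hcompat
  obtain ⟨V, hV⟩ := Opens.mem_iSup.mp (hcov hη)
  refine ⟨g, ?_⟩
  rw [← ha V hV, ← hg V]
  exact (TopCat.Presheaf.germ_res_apply X.presheaf (homOfLE (hle V)) _ hV g).symm

include hX in
theorem cond_zero_iff {x : X} (hx : Order.coheight x = 1) {f : X.functionField} (hf : f ≠ 0) :
    0 ≤ Scheme.ord f x ↔ CDivCoreLib.Reg f x :=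
  ⟨CDivCoreLib.reg_of_ord_nonneg hX hx hf, CDivCoreLib.ord_nonneg_of_reg hX hx hf⟩

theorem germ_ne_zero {U : X.Opens} (hη : genericPoint X ∈ U) {g : Γ(X, U)} (hg : g ≠ 0) :
    (X.presheaf.germ U _ hη g : X.functionField) ≠ 0 := fun h => by
  haveI : Nonempty U := ⟨⟨_, hη⟩⟩
  exact hg (germ_injective_of_isIntegral X _ hη (h.trans (map_zero _).symm))

include hX in
theorem ord_germ_nonneg {U : X.Opens} {x : X} (hx1 : Order.coheight x = 1) (hx : x ∈ U) {g : Γ(X, U)} (hg : g ≠ 0) :
    0 ≤ Scheme.ord (X.presheaf.germ U _ (mem_of_nonempty hx) g : X.functionField) x :=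
  CDivCoreLib.ord_nonneg_of_reg hX hx1 (germ_ne_zero _ hg) ⟨_, CDivCoreLib.algebraMap_germ hx _ g⟩

include hX in
theorem one_le_ord_germ {U : X.Opens} {x : X} (hx1 : Order.coheight x = 1) (hx : x ∈ U) {g : Γ(X, U)}
    (hg : g ≠ 0) (hxg : x ∉ X.basicOpen g) :
    1 ≤ Scheme.ord (X.presheaf.germ U _ (mem_of_nonempty hx) g : X.functionField) x := by
  have h0 := ord_germ_nonneg hX hx1 hx hg
  by_contra h
  obtain ⟨-, ⟨b, hb⟩⟩ := (CDivCoreLib.ord_eq_zero_iff hX hx1 (germ_ne_zero (mem_of_nonempty hx) hg)).1 (by omega)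
  refine hxg ((X.mem_basicOpen g x hx).2 (isUnit_iff_exists_inv.2 ⟨b,
    IsFractionRing.injective (X.presheaf.stalk x) X.functionField ?_⟩))
  rw [map_mul, map_one, hb, CDivCoreLib.algebraMap_germ hx (mem_of_nonempty hx)]
  exact mul_inv_cancel₀ (germ_ne_zero _ hg)

theorem ord_pow' {x : X} {f : X.functionField} (hf : f ≠ 0) (n : ℕ) :
    Scheme.ord (f ^ n) x = n * Scheme.ord f x := by
  induction n with
  | zero =>
    haveI : Nonempty (⊤ : X.Opens) := ⟨⟨x, trivial⟩⟩
    have h := Scheme.ord_of_isUnit (X := X) (U := ⊤) (f := 1) isUnit_one (x := x) trivial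
    rw [map_one] at h
    simpa using h
  | succ n ih => rw [pow_succ, Scheme.ord_mul (pow_ne_zero n hf) hf, ih]; push_cast; ring

variable (D : AlgebraicCycle X ℤ)

/-- The module of a cycle. -/
abbrev DM : X.Modules := divMod (⇑D) hX

theorem localizingAt_divMod {U : X.Opens} (hU : IsAffineOpen U) (g : Γ(X, U)) :
    QCohLib.LocalizingAt (DM hX D) g := by
  classical
  have hD := X.basicOpen_le g
  have hg0 : g = 0 ∨ genericPoint X ∈ X.basicOpen g := by
    by_cases h : genericPoint X ∈ X.basicOpen g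
    · exact Or.inr h
    · exact Or.inl (((basicOpen_eq_bot_iff g).1) (eq_bot_iff.2 fun x hx => absurd (mem_of_nonempty hx) h))
  refine ⟨fun s => ?_, fun t ht => ?_⟩
  · rcases hg0 with rfl | hη
    · refine ⟨1, 0, ?_⟩
      rw [map_zero, pow_one, map_zero, zero_smul]
    let f := val _ hX hη s
    let gK : X.functionField := X.presheaf.germ U _ (hD hη) g
    have hgK : gK ≠ 0 := germ_ne_zero _ fun h => by
      rw [h, Scheme.basicOpen_zero] at hη
      exact hη
    have hgU : g ≠ 0 := fun h => by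
      rw [h, Scheme.basicOpen_zero] at hη
      exact hη
    let B := (finite_coheight_one_inter (X.basicOpen g) hη hU).toFinset
    let n := ∑ x ∈ B, (-(Scheme.ord f x + D x)).toNat
    have hcond : ∀ x ∈ U, Cond (⇑D) x (gK ^ n * f) := fun x hx hne hx1 => by
      obtain ⟨-, hf⟩ := mul_ne_zero_iff.1 hne
      rw [Scheme.ord_mul (pow_ne_zero n hgK) hf, ord_pow' hgK]
      by_cases hxg : x ∈ X.basicOpen g
      · have h1 := cond_val _ hX hη s hxg hf hx1
        have h2 : 0 ≤ (n : ℤ) * Scheme.ord gK x :=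
          mul_nonneg (Int.natCast_nonneg n) (ord_germ_nonneg hX hx1 hx hgU)
        change 0 ≤ Scheme.ord f x + D x at h1
        omega
      · have h1 : (-(Scheme.ord f x + D x)).toNat ≤ n :=
          Finset.single_le_sum (f := fun x => (-(Scheme.ord f x + D x)).toNat) (fun _ _ => Nat.zero_le _)
            ((Set.Finite.mem_toFinset _).2 ⟨hx1, hx, hxg⟩)
        have h2 : (n : ℤ) * 1 ≤ n * Scheme.ord gK x :=
          mul_le_mul_of_nonneg_left (one_le_ord_germ hX hx1 hx hgU hxg) (Int.natCast_nonneg n)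
        omega
    refine ⟨n, mkSec _ hX (gK ^ n * f) hcond, sec_ext _ hX _ _ fun hη' => ?_⟩
    rw [val_res, val_mkSec, val_smul, map_pow, TopCat.Presheaf.germ_res_apply]
  · rcases hg0 with rfl | hη
    · exact ⟨1, by rw [map_zero, pow_one, zero_smul]⟩
    refine ⟨0, ?_⟩
    rw [pow_zero, one_smul]
    refine sec_ext _ hX _ _ fun hη' => ?_
    have h := congrArg (val _ hX hη) ht
    rwa [val_res, val_zero] at h

theorem isQCoh_divMod : Coh.IsQCoh (DM hX D) := by
  choose W hW hxW _ using fun x : X =>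
    exists_isAffineOpen_mem_and_subset (x := x) (U := (⊤ : X.Opens)) trivial
  exact QCohLib.isQCoh_of_localizingAt _ W hW
    (eq_top_iff.2 fun x _ => Opens.mem_iSup.2 ⟨x, hxW x⟩) fun x f => localizingAt_divMod hX D (hW x) f

theorem finite_sections {U : X.Opens} (hU : IsAffineOpen U) (hη : genericPoint X ∈ U) :
    Module.Finite Γ(X, U) Γ((DM hX D), U) := by
  classical
  haveI : IsNoetherianRing Γ(X, U) := IsLocallyNoetherian.component_noetherian ⟨U, hU⟩
  haveI : Nonempty U := ⟨⟨_, hη⟩⟩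
  let B := (finite_support_affine D hU).toFinset.filter fun x => Order.coheight x = 1
  have hex : ∀ x ∈ B, ∃ a : Γ(X, U), a ≠ 0 ∧ x ∉ X.basicOpen a := fun x hx => by
    obtain ⟨hx', hx1⟩ := Finset.mem_filter.1 hx
    have hxU : x ∈ U := ((Set.Finite.mem_toFinset _).1 hx').1
    let O : X.Opens := ⟨(closure {x})ᶜ, isClosed_closure.isOpen_compl⟩
    have hηO : genericPoint X ∈ O := fun h => ne_generic_of_coheight hx1
      ((specializes_generic x).antisymm (specializes_iff_mem_closure.2 h)).eq.symm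
    obtain ⟨a, haO, hηa⟩ := QCohLib.exists_basicOpen_nhd hU hηO hη
    refine ⟨a, fun h => ?_, fun h => haO h (subset_closure rfl)⟩
    rw [h, Scheme.basicOpen_zero] at hηa
    exact hηa
  choose! a ha0 ha using hex
  let d : Γ(X, U) := ∏ x ∈ B, a x ^ (D x).toNat
  have hd : d ≠ 0 := Finset.prod_ne_zero_iff.2 fun x hx => pow_ne_zero _ (ha0 x hx)
  let dK : X.functionField := X.presheaf.germ U _ hη d
  have hdK : dK ≠ 0 := germ_ne_zero _ hd
  have key : ∀ x ∈ U, Order.coheight x = 1 → D x ≤ Scheme.ord dK x := fun x hx hx1 => by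
    by_cases hD : D x ≤ 0
    · exact hD.trans (ord_germ_nonneg hX hx1 hx hd)
    have hxB : x ∈ B := Finset.mem_filter.2 ⟨(Set.Finite.mem_toFinset _).2 ⟨hx, fun h => hD h.le⟩, hx1⟩
    obtain ⟨c, hc⟩ : a x ^ (D x).toNat ∣ d := Finset.dvd_prod_of_mem _ hxB
    have hc0 : c ≠ 0 := fun h => hd (by rw [hc, h, mul_zero])
    have h1 : dK = (X.presheaf.germ U _ hη (a x) : X.functionField) ^ (D x).toNat *
        (X.presheaf.germ U _ hη c : X.functionField) := by
      show (X.presheaf.germ U _ hη d : X.functionField) = _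
      rw [hc, map_mul, map_pow]
    rw [h1, Scheme.ord_mul (pow_ne_zero _ (germ_ne_zero _ (ha0 x hxB))) (germ_ne_zero _ hc0),
      ord_pow' (germ_ne_zero _ (ha0 x hxB))]
    have h2 := one_le_ord_germ hX hx1 hx (ha0 x hxB) (ha x hxB)
    have h3 := ord_germ_nonneg hX hx1 hx hc0
    have h4 : ((D x).toNat : ℤ) * 1 ≤ (D x).toNat * Scheme.ord (X.presheaf.germ U _ hη (a x) : X.functionField) x :=
      mul_le_mul_of_nonneg_left h2 (Int.natCast_nonneg _)
    omega
  have hreg : ∀ s : Γ((DM hX D), U), ∃ r : Γ(X, U), X.presheaf.germ U _ hη r = dK * val _ hX hη s := fun s => by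
    refine exists_section_of_reg' hη _ fun x hx => CDivCoreLib.reg_of_coheight_one hX fun y hy hy1 => ?_
    have hyU := hy.mem_open U.2 hx
    by_cases hf : val _ hX hη s = 0
    · exact ⟨0, by rw [map_zero, hf, mul_zero]⟩
    refine CDivCoreLib.reg_of_ord_nonneg hX hy1 (mul_ne_zero hdK hf) ?_
    rw [Scheme.ord_mul hdK hf]
    have h1 := cond_val _ hX hη s hyU hf hy1
    have h2 := key y hyU hy1
    omega
  choose r hr using hreg
  have hinj : ∀ {p q : Γ(X, U)}, (X.presheaf.germ U _ hη p : X.functionField) = X.presheaf.germ U _ hη q → p = q :=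
    fun h => germ_injective_of_isIntegral X _ hη h
  let Φ : Γ((DM hX D), U) →ₗ[Γ(X, U)] Γ(X, U) :=
    { toFun := r
      map_add' := fun s t => hinj (by rw [map_add, hr, hr, hr, val_add, mul_add])
      map_smul' := fun c s => hinj (by
        rw [RingHom.id_apply, smul_eq_mul, map_mul, hr, hr, val_smul, mul_left_comm]) }
  refine Module.Finite.of_injective Φ fun s t h => sec_ext _ hX _ _ fun _ => mul_left_cancel₀ hdK ?_
  rw [← hr, ← hr, show r s = r t from h]

theorem isCoh_divMod : Coh.IsCoh (DM hX D) := by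
  haveI := isQCoh_divMod hX D
  refine ⟨inferInstance, QCohLib.isFT_of_finite fun p => ?_⟩
  obtain ⟨U, hU, hpU, -⟩ := exists_isAffineOpen_mem_and_subset (x := p) (U := (⊤ : X.Opens)) trivial
  exact ⟨U, hU, hpU, finite_sections hX D hU (mem_of_nonempty hpU)⟩

theorem genInvertible_divMod : RefHull.GenInvertible (DM hX D) := by
  classical
  obtain ⟨U, hU, hηU, -⟩ :=
    exists_isAffineOpen_mem_and_subset (x := genericPoint X) (U := (⊤ : X.Opens)) trivial
  let B := (finite_support_affine D hU).toFinset.filter fun x => Order.coheight x = 1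
  let O : X.Opens := ⟨(U : Set X) ∩ (⋃ x ∈ B, closure {x})ᶜ,
    U.2.inter (isClosed_biUnion_finset fun _ _ => isClosed_closure).isOpen_compl⟩
  have hηO : genericPoint X ∈ O := ⟨hηU, fun h => by
    obtain ⟨x, hx, hxη⟩ := Set.mem_iUnion₂.1 h
    exact ne_generic_of_coheight (Finset.mem_filter.1 hx).2
      ((specializes_generic x).antisymm (specializes_iff_mem_closure.2 hxη)).eq.symm⟩
  have hD0 : ∀ x ∈ O, Order.coheight x = 1 → D x = 0 := fun x hx hx1 => by
    by_contra hne
    exact hx.2 (Set.mem_iUnion₂.2 ⟨x, Finset.mem_filter.2 ⟨(Set.Finite.mem_toFinset _).2 ⟨hx.1, hne⟩, hx1⟩,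
      subset_closure rfl⟩)
  let σ : Γ((DM hX D), O) := mkSec _ hX 1 fun x hx _ hx1 => by
    rw [hD0 x hx hx1, add_zero]
    exact CDivCoreLib.ord_nonneg_of_reg hX hx1 one_ne_zero ⟨1, map_one _⟩
  have hσ : AmpleLib.GenOn (DM hX D) σ := by
    intro V hV
    by_cases hη : genericPoint X ∈ V
    · haveI : Nonempty V := ⟨⟨_, hη⟩⟩
      have hval : ∀ p : Γ(X, V), val _ hX hη (p • AmpleLib.res (DM hX D) hV σ) = X.presheaf.germ V _ hη p := fun p => by
        rw [val_smul]
        exact mul_one _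
      refine ⟨fun p q h => germ_injective_of_isIntegral X _ hη ?_, fun s => ?_⟩
      · exact (hval p).symm.trans ((congrArg (val _ hX hη) h).trans (hval q))
      · obtain ⟨r, hr⟩ := exists_section_of_reg' hη (val _ hX hη s) fun x hx =>
          CDivCoreLib.reg_of_coheight_one hX fun y hy hy1 => by
            by_cases hf : val _ hX hη s = 0
            · exact ⟨0, by rw [map_zero, hf]⟩
            have hyV := hy.mem_open V.2 hx
            refine CDivCoreLib.reg_of_ord_nonneg hX hy1 hf ?_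
            have h1 := cond_val _ hX hη s hyV hf hy1
            rw [hD0 y (hV hyV) hy1, add_zero] at h1
            exact h1
        exact ⟨r, sec_ext _ hX _ _ fun _ => (hval r).trans hr⟩
    · have hemp : ∀ x, x ∉ V := fun x hx => hη (mem_of_nonempty hx)
      refine ⟨fun p q _ => ?_, fun s => ⟨0, sec_ext _ hX _ _ fun h => absurd h hη⟩⟩
      exact TopCat.Presheaf.section_ext X.sheaf _ _ _ fun y hy => absurd hy (hemp y)
  refine ⟨O, O.2.dense ⟨_, hηO⟩, ?_⟩
  have hle : O.ι ''ᵁ ⊤ ≤ O := by rw [Scheme.Opens.ι_image_top]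
  exact TwistLib.isInvertible_of_genOn (ι := PUnit.{u+1}) (fun _ => ⊤) (fun _ => ⟨PUnit.unit, trivial⟩)
    (fun _ => AmpleLib.res (DM hX D) hle σ) fun _ => hσ.restrict O.ι ⊤ hle

theorem spec_injective_divMod (x : X) : Function.Injective (spec (DM hX D) x) := by
  intro a b h
  obtain ⟨U, hU, s, rfl⟩ := (DM hX D).presheaf.exists_germ_eq (x := x) a
  obtain ⟨V, hV, t, rfl⟩ := (DM hX D).presheaf.exists_germ_eq (x := x) b
  rw [spec_germ, spec_germ] at h
  exact (val_germ_eq _ hX hU hV s t).2 ((val_germ_eq _ hX _ _ s t).1 h)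

theorem torsionFree_divMod (x : X) : Module.IsTorsionFree (X.presheaf.stalk x) ((DM hX D).presheaf.stalk x) :=
  ⟨fun r hr v w h => spec_injective_divMod hX D x (by
    have h1 := congrArg (spec (DM hX D) x) h
    rw [spec_smul, spec_smul] at h1
    exact (isUnit_iff_ne_zero (G₀ := X.functionField).2
      ((map_ne_zero_iff _ (IsFractionRing.injective (X.presheaf.stalk x) X.functionField)).2 hr.ne_zero)
      : IsUnit (algebraMap (X.presheaf.stalk x) X.functionField r : X.presheaf.stalk (genericPoint X))).smul_left_cancel.1 h1)⟩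

theorem isReflexive_divMod : RefHull.IsReflexive (DM hX D) := by
  have hcoh := isCoh_divMod hX D
  haveI := hcoh.1
  have hst := ZClosLib.stableUnderSpecialization_dimGe (X := X) 2
  have hz : ZClos.IsZClosed (ZClos.dimGe X 2) (DM hX D) := by
    refine (RefHullLib.normalSec_iff _).1 fun U V hVU hd => ?_
    have hmem : ∀ x ∈ U, Order.coheight x = 1 → x ∈ V := fun x hx hx1 => by
      by_contra h
      have h2 := hd x hx h
      rw [ringKrullDim_stalk_eq_coheight, hx1] at h2
      exact absurd h2 (by decide)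
    have hη : ∀ x ∈ U, genericPoint X ∈ V := fun x hx => by
      by_contra h
      have h2 := hd _ (mem_of_nonempty hx) h
      rw [ringKrullDim_stalk_eq_coheight, Order.coheight_eq_zero.2 fun y _ =>
        Scheme.le_iff_specializes.2 (specializes_generic y)] at h2
      exact absurd h2 (by decide)
    refine ⟨fun s t h => sec_ext _ hX _ _ fun hηU => ?_, fun t => ?_⟩
    · have h1 := congrArg (val _ hX (hη _ hηU)) h
      rwa [val_res, val_res] at h1
    · by_cases hηU : genericPoint X ∈ U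
      · refine ⟨mkSec _ hX (val _ hX (hη _ hηU) t) fun x hx hne hx1 =>
          cond_val _ hX _ t (hmem x hx hx1) hne hx1, sec_ext _ hX _ _ fun _ => ?_⟩
        rw [val_res, val_mkSec]
      · exact ⟨0, sec_ext _ hX _ _ fun h => absurd (hVU h) hηU⟩
  have hz' := RefHullLib.isZClosed_dual hX (RefHullLib.isCoh_dual hcoh)
  refine RefHullLib.isIso_of_off hst (RefHull.bidualMap (DM hX D)) hz ((ZClosLib.isZClosed_iff hst).mp hz').1 fun x hx => ?_
  haveI := (hX x).2
  haveI := DepthLib.finite_stalk _ hcoh.2 x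
  haveI := torsionFree_divMod hX D x
  haveI : Ring.KrullDimLE 1 (X.presheaf.stalk x) := by
    rcases ZClosLib.dim_eq_zero_or_one hx with h | h
    · exact Ring.krullDimLE_iff.2 (by rw [h]; exact zero_le_one)
    · exact Ring.krullDimLE_iff.2 h.le
  exact (RefHullLib.bijective_stalk_bidual_iff hcoh x).2 (ReflexLib.isReflexive_of_dim_le_one _)

theorem isRef1_divMod : RefHull.IsRef1 (DM hX D) :=
  ⟨isCoh_divMod hX D, isReflexive_divMod hX D, genInvertible_divMod hX D⟩

end Ref1Lib

end
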