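import Groth.Agent.Ref1Lib.Gen
import Groth.Agent.CohBCLib.SecTensor
import Groth.Agent.S2297

/-!
# Rank one reflexive modules: tensor products, duals, the unit
-/

set_option autoImplicit false
set_option linter.style.haveILetI false
universe u

open CategoryTheory AlgebraicGeometry TopologicalSpace TensorProduct

noncomputable section

namespace Ref1Lib

open RefHullLib (specializes_generic mem_of_nonempty)

variable {X : Scheme.{u}}

/-- `t` is a free generator of the stalk. -/
abbrev FreeGen (M : X.Modules) (x : X) (t : M.presheaf.stalk x) : Prop :=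
  Function.Bijective fun c : X.presheaf.stalk x => c • t

/-- The product of two germs. -/
def tp (F G : X.Modules) (x : X) (a : F.presheaf.stalk x) (b : G.presheaf.stalk x) :
    (CohB1.tensorMod F G).presheaf.stalk x :=
  KFlatLib.stalkTensorLin F G x (a ⊗ₜ b)

theorem tp_germ (F G : X.Modules) {x : X} {U : X.Opens} (hx : x ∈ U) (m : Γ(F, U)) (n : Γ(G, U)) :
    tp F G x (F.presheaf.germ U x hx m) (G.presheaf.germ U x hx n) =
      (CohB1.tensorMod F G).presheaf.germ U x hx (CohBCLib.prodSec F G U m n) :=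
  KFlatLib.stalkTensorLin_germ F G x hx m n

theorem tp_smul_smul (F G : X.Modules) (x : X) (c d : X.presheaf.stalk x) (a : F.presheaf.stalk x)
    (b : G.presheaf.stalk x) : tp F G x (c • a) (d • b) = (c * d) • tp F G x a b := by
  show KFlatLib.stalkTensorLin F G x ((c • a) ⊗ₜ (d • b)) = _
  rw [TensorProduct.smul_tmul_smul, map_smul]
  rfl

theorem freeGen_tp {F G : X.Modules} {x : X} {a : F.presheaf.stalk x} {b : G.presheaf.stalk x}
    (ha : FreeGen F x a) (hb : FreeGen G x b) : FreeGen (CohB1.tensorMod F G) x (tp F G x a b) := by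
  let R := X.presheaf.stalk x
  let eF : R ≃ₗ[R] F.presheaf.stalk x := LinearEquiv.ofBijective (LinearMap.toSpanSingleton R _ a) ha
  let eG : R ≃ₗ[R] G.presheaf.stalk x := LinearEquiv.ofBijective (LinearMap.toSpanSingleton R _ b) hb
  let e : R ≃ₗ[R] (KFlatLib.tens F G).presheaf.stalk x :=
    ((TensorProduct.lid R R).symm ≪≫ₗ TensorProduct.congr eF eG) ≪≫ₗ
      LinearEquiv.ofBijective (KFlatLib.stalkTensorLin F G x) (KFlatLib.stalkTensorLin_bijective F G x)
  have h1 : ∀ c : R, e c = c • (tp F G x a b) := fun c => by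
    have h2 : e 1 = tp F G x a b := by
      show KFlatLib.stalkTensorLin F G x (((1 : R) • a) ⊗ₜ ((1 : R) • b)) = _
      rw [one_smul (X.presheaf.stalk x) a, one_smul (X.presheaf.stalk x) b]
      rfl
    rw [← h2]
    exact (congrArg e (mul_one c).symm).trans (map_smul e c 1)
  show Function.Bijective fun c : R => c • tp F G x a b
  rw [← show (⇑e : R → _) = fun c => c • tp F G x a b from funext h1]
  exact e.bijective

theorem freeGen_map {M N : X.Modules} (φ : M ⟶ N) {x : X} {t : M.presheaf.stalk x} (ht : FreeGen M x t)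
    (hφ : Function.Bijective (RefHull.stalkMapₗ φ x)) : FreeGen N x (RefHull.stalkMapₗ φ x t) := by
  refine (congrArg Function.Bijective (funext fun c => ?_)).mp (hφ.comp ht)
  exact map_smul _ c t

theorem freeGen_ne_zero {M : X.Modules} {x : X} {t : M.presheaf.stalk x} (ht : FreeGen M x t) : t ≠ 0 :=
  fun h => one_ne_zero (α := X.presheaf.stalk x) (ht.1 (by simp only [h, smul_zero]))

theorem span_of_freeGen {M : X.Modules} {x : X} {t : M.presheaf.stalk x} (ht : FreeGen M x t) :
    Submodule.span (X.presheaf.stalk x) {t} = ⊤ :=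
  eq_top_iff.2 fun z _ => Submodule.mem_span_singleton.2 (ht.2 z)

variable [IsIntegral X]

theorem spec_tp (F G : X.Modules) (x : X) (a : F.presheaf.stalk x) (b : G.presheaf.stalk x) :
    spec (CohB1.tensorMod F G) x (tp F G x a b) = tp F G (genericPoint X) (spec F x a) (spec G x b) := by
  obtain ⟨U, hU, m, rfl⟩ := F.presheaf.exists_germ_eq (x := x) a
  obtain ⟨V, hV, n, rfl⟩ := G.presheaf.exists_germ_eq (x := x) b
  rw [← TopCat.Presheaf.germ_res_apply F.presheaf (homOfLE (inf_le_left : U ⊓ V ≤ U)) x ⟨hU, hV⟩ m,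
    ← TopCat.Presheaf.germ_res_apply G.presheaf (homOfLE (inf_le_right : U ⊓ V ≤ V)) x ⟨hU, hV⟩ n,
    tp_germ, spec_germ, spec_germ, spec_germ, tp_germ]

theorem spec_map {M N : X.Modules} (φ : M ⟶ N) (x : X) (v : M.presheaf.stalk x) :
    spec N x (RefHull.stalkMapₗ φ x v) = RefHull.stalkMapₗ φ (genericPoint X) (spec M x v) :=
  RefHullLib.stalkMap_stalkSpecializes φ (specializes_generic x) v

variable [IsLocallyNoetherian X]

/-- The order of a rational section, computed with a free generator. -/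
theorem secOrdAt_free (F : X.Modules) {x : X} (hx : Order.coheight x = 1) (h : genericPoint X ⤳ x)
    {v : F.presheaf.stalk (genericPoint X)} (hv : v ≠ 0) {t : F.presheaf.stalk x}
    (ht : FreeGen F x t) {φ : X.presheaf.stalk (genericPoint X)} (hφ : v = φ • spec F x t) :
    Cyc.secOrdAt F (genericPoint X) x h (Submodule.Quotient.mk v) = Scheme.ord φ x := by
  have hex : ∃ t, Submodule.span (X.presheaf.stalk x) {t} = ⊤ := ⟨t, span_of_freeGen ht⟩
  obtain ⟨a, hta⟩ := ht.2 hex.choose
  obtain ⟨b, hb⟩ := Submodule.mem_span_singleton.1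
    (show t ∈ Submodule.span (X.presheaf.stalk x) {hex.choose} by rw [hex.choose_spec]; trivial)
  dsimp only at hta
  have hab : b * a = 1 := ht.1 (by
    show (b * a) • t = (1 : X.presheaf.stalk x) • t
    rw [mul_smul, hta, hb, one_smul])
  have ha : IsUnit a := IsUnit.of_mul_eq_one b ((mul_comm a b).trans hab)
  have hφ0 : φ ≠ 0 := fun h0 => hv (by rw [hφ, h0, zero_smul])
  have hA : algebraMap (X.presheaf.stalk x) X.functionField a ≠ 0 := (ha.map _).ne_zero
  let φ' : X.functionField := (φ : X.functionField) / algebraMap (X.presheaf.stalk x) X.functionField a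
  have hφ' : v = (φ' : X.presheaf.stalk (genericPoint X)) • spec F x hex.choose := by
    rw [← hta, spec_smul, smul_smul, hφ]
    exact congrArg (fun c => c • spec F x t) (div_mul_cancel₀ (φ : X.functionField) hA).symm
  have hq : ∃ ψ : X.presheaf.stalk (genericPoint X), (Submodule.Quotient.mk v : Cyc.secFibre F (genericPoint X)) =
      ψ • (Submodule.Quotient.mk ((F.presheaf.stalkSpecializes h) hex.choose)) :=
    ⟨φ', congrArg Submodule.Quotient.mk hφ'⟩
  have hspec : spec F x hex.choose ≠ 0 := fun h0 => hv (by rw [hφ', h0, smul_zero])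
  have hψ : hq.choose = φ' := smul_left_injective' hspec
    ((mk_injective F (show (Submodule.Quotient.mk v : Cyc.secFibre F (genericPoint X)) =
      Submodule.Quotient.mk (hq.choose • spec F x hex.choose) from hq.choose_spec)).symm.trans hφ')
  refine (dif_pos hex).trans ((dif_pos hq).trans ?_)
  refine (congrArg (fun ψ => Cyc.ordAt x (genericPoint X) h (X.residue (genericPoint X) ψ)) hψ).trans ?_
  rw [ordAt_generic hx h (div_ne_zero hφ0 hA), div_eq_mul_inv]
  rw [Scheme.ord_mul hφ0 (inv_ne_zero hA), CDivCoreLib.ord_inv hA, units_spec hx ha, neg_zero, add_zero]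

theorem exists_freeGen (hX : Pi1.IsNormalScheme X) {F : X.Modules} (hF : RefHull.IsRef1 F) {x : X}
    (hx : Order.coheight x = 1) : ∃ t, FreeGen F x t := by
  obtain ⟨t, ht, ht0⟩ := exists_gen hX hF hx
  haveI := torsionFree_stalk hF x
  refine ⟨t, smul_left_injective _ ht0, fun z => ?_⟩
  exact Submodule.mem_span_singleton.1 (ht ▸ Submodule.mem_top : z ∈ _)

theorem bijective_bidual_of_free {M : X.Modules} (hM : Coh.IsCoh M) {x : X} {t : M.presheaf.stalk x}
    (ht : FreeGen M x t) : Function.Bijective (RefHull.stalkMapₗ (RefHull.bidualMap M) x) := by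
  refine (RefHullLib.bijective_stalk_bidual_iff hM x).2 ?_
  let e : X.presheaf.stalk x ≃ₗ[X.presheaf.stalk x] M.presheaf.stalk x :=
    LinearEquiv.ofBijective (LinearMap.toSpanSingleton _ _ t) ht
  exact Module.equiv e

theorem isReflexive_dual' {F : X.Modules} (hF : Coh.IsCoh F) : RefHull.IsReflexive (RefHull.dual F) :=
  (RefHullLib.isReflexive_iff (RefHullLib.isCoh_dual hF)).2 fun x => RefHullLib.isReflexive_stalk_dual hF x

theorem genInvertible_of_genOn {M : X.Modules} {W : X.Opens} (hη : genericPoint X ∈ W) (σ : Γ(M, W))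
    (hσ : AmpleLib.GenOn M σ) : RefHull.GenInvertible M := by
  refine ⟨W, W.2.dense ⟨_, hη⟩, ?_⟩
  have hle : W.ι ''ᵁ ⊤ ≤ W := by rw [Scheme.Opens.ι_image_top]
  exact TwistLib.isInvertible_of_genOn (ι := PUnit.{u+1}) (fun _ => ⊤) (fun _ => ⟨PUnit.unit, trivial⟩)
    (fun _ => AmpleLib.res M hle σ) fun _ => hσ.restrict W.ι ⊤ hle

theorem genOn_map {M N : X.Modules} (φ : M ⟶ N) {W : X.Opens} {σ : Γ(M, W)} (hσ : AmpleLib.GenOn M σ)
    (hφ : ∀ x ∈ W, Function.Bijective (RefHull.stalkMapₗ φ x)) : AmpleLib.GenOn N (φ.app W σ) :=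
  TwistLib.genOn_of_genAt fun x hx => by
    have h := freeGen_map φ (hσ.genAt hx) (hφ x hx)
    rwa [RefHull.stalkMapₗ_germ] at h

theorem isCoh_tensor {F G : X.Modules} (hF : Coh.IsCoh F) (hG : Coh.IsCoh G) :
    Coh.IsCoh (CohB1.tensorMod F G) := by
  haveI := hF.1
  haveI := hG.1
  obtain ⟨h1, h2⟩ := Groth.Agent.S2297.result F G
  exact ⟨h1, h2 hF.2 hG.2⟩

theorem isRef1_ddualTensor {F G : X.Modules} (hF : RefHull.IsRef1 F) (hG : RefHull.IsRef1 G) :
    RefHull.IsRef1 (RefHull.ddual (CohB1.tensorMod F G)) := by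
  have hT := isCoh_tensor hF.1 hG.1
  refine ⟨RefHullLib.isCoh_dual (RefHullLib.isCoh_dual hT), isReflexive_dual' (RefHullLib.isCoh_dual hT), ?_⟩
  obtain ⟨W, hη, σ, hσ⟩ := exists_genOn_of_genInvertible hF.2.2
  obtain ⟨V, hη', τ, hτ⟩ := exists_genOn_of_genInvertible hG.2.2
  have hgen : AmpleLib.GenOn (CohB1.tensorMod F G) (CohBCLib.prodSec F G (W ⊓ V)
      (AmpleLib.res F inf_le_left σ) (AmpleLib.res G inf_le_right τ)) :=
    TwistLib.genOn_of_genAt fun x hx => by
      have h := freeGen_tp ((hσ.res inf_le_left).genAt hx) ((hτ.res inf_le_right).genAt hx)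
      rwa [tp_germ] at h
  exact genInvertible_of_genOn (W := W ⊓ V) ⟨hη, hη'⟩ _
    (genOn_map (RefHull.bidualMap _) hgen fun x hx => bijective_bidual_of_free hT (hgen.genAt hx))

theorem isRef1_unit : RefHull.IsRef1 (Coh.structureModule X) := by
  have h1 := AmpleLib.one_genOn (X := X) ⊤
  refine ⟨DevissLib.isCoh_structureModule X, (RefHullLib.isReflexive_iff (DevissLib.isCoh_structureModule X)).2
    fun x => ?_, genInvertible_of_genOn (W := ⊤) trivial _ h1⟩
  exact (RefHullLib.bijective_stalk_bidual_iff (DevissLib.isCoh_structureModule X) x).1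
    (bijective_bidual_of_free (DevissLib.isCoh_structureModule X) (h1.genAt (x := x) trivial))

theorem secOrd_unit {x : X} (hx : Order.coheight x = 1) :
    ∃ v : (Coh.structureModule X).presheaf.stalk (genericPoint X), v ≠ 0 ∧
      ∀ h, Cyc.secOrdAt (Coh.structureModule X) (genericPoint X) x h (Submodule.Quotient.mk v) = 0 := by
  have h1 := AmpleLib.one_genOn (X := X) ⊤
  refine ⟨_, freeGen_ne_zero (h1.genAt (x := genericPoint X) trivial), fun h => ?_⟩
  refine (secOrdAt_free _ hx h (freeGen_ne_zero (h1.genAt (x := genericPoint X) trivial))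
    (h1.genAt (x := x) trivial) (φ := 1) ?_).trans ?_
  · rw [one_smul, spec_germ]
  · simpa using units_spec hx (isUnit_one (M := X.presheaf.stalk x))

theorem spec_eval (F : X.Modules) (x : X) (θ : (RefHull.dual F).presheaf.stalk x) (a : F.presheaf.stalk x) :
    spec (Coh.structureModule X) x (RefHull.evalStalk F (Coh.structureModule X) x θ a) =
      RefHull.evalStalk F (Coh.structureModule X) (genericPoint X) (spec (RefHull.dual F) x θ) (spec F x a) := by
  obtain ⟨U, hU, g, rfl⟩ := (RefHull.dual F).presheaf.exists_germ_eq (x := x) θ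
  obtain ⟨V, hV, m, rfl⟩ := F.presheaf.exists_germ_eq (x := x) a
  have hW : x ∈ U ⊓ V := ⟨hU, hV⟩
  have hη := mem_of_nonempty hW
  rw [← TopCat.Presheaf.germ_res_apply (RefHull.dual F).presheaf (homOfLE (inf_le_left : U ⊓ V ≤ U)) x hW g,
    ← TopCat.Presheaf.germ_res_apply F.presheaf (homOfLE (inf_le_right : U ⊓ V ≤ V)) x hW m,
    spec_germ (RefHull.dual F) hW, spec_germ F hW]
  erw [RefHull.evalStalk_germ, RefHull.evalStalk_germ]
  rw [← RefHullLib.germ_app _ _ x hW, spec_germ]
  exact RefHullLib.germ_app _ _ _ hη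

/-- The dual free generator. -/
theorem exists_dual_gen {F : X.Modules} (hF : Coh.IsCoh F) {x : X} {t : F.presheaf.stalk x}
    (ht : FreeGen F x t) {u : (Coh.structureModule X).presheaf.stalk x} (hu : FreeGen (Coh.structureModule X) x u) :
    ∃ θ, FreeGen (RefHull.dual F) x θ ∧ RefHull.evalStalk F (Coh.structureModule X) x θ t = u := by
  let R := X.presheaf.stalk x
  let eF : R ≃ₗ[R] F.presheaf.stalk x := LinearEquiv.ofBijective (LinearMap.toSpanSingleton R _ t) ht
  have hev := RefHullLib.evalStalk_bijective (G := Coh.structureModule X) (QCohLib.isFP_of_isCoh F hF) x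
  obtain ⟨θ, hθ⟩ := hev.2 ((LinearMap.toSpanSingleton R _ u).comp eF.symm.toLinearMap)
  have ht1 : eF 1 = t := one_smul R t
  have hθt : RefHull.evalStalk F (Coh.structureModule X) x θ t = u := by
    rw [hθ, ← ht1]
    show (eF.symm (eF 1)) • u = u
    rw [eF.symm_apply_apply]
    exact one_smul R u
  refine ⟨θ, ⟨fun a b h => hu.1 ?_, fun g => ?_⟩, hθt⟩
  · have h1 := congrArg (fun θ => RefHull.evalStalk F (Coh.structureModule X) x θ t) h
    simp only [map_smul] at h1
    show a • u = b • u
    rw [← hθt]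
    exact h1
  · obtain ⟨c, hc⟩ := hu.2 (RefHull.evalStalk F (Coh.structureModule X) x g t)
    refine ⟨c, hev.1 (LinearMap.ext fun w => ?_)⟩
    obtain ⟨d, rfl⟩ := ht.2 w
    show RefHull.evalStalk F (Coh.structureModule X) x (c • θ) (d • t) = _
    rw [map_smul, map_smul, map_smul]
    refine congrArg (d • ·) ?_
    show c • RefHull.evalStalk F (Coh.structureModule X) x θ t = _
    rw [hθt]
    exact hc

theorem exists_dual_sec {F : X.Modules} {W : X.Opens} {σ : Γ(F, W)} (hσ : AmpleLib.GenOn F σ) :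
    ∃ gW : Γ(RefHull.dual F, W), ∀ y (hy : y ∈ W),
      RefHull.evalStalk F (Coh.structureModule X) y ((RefHull.dual F).presheaf.germ W y hy gW)
        (F.presheaf.germ W y hy σ) = (Coh.structureModule X).presheaf.germ ⊤ y trivial (1 : Γ(X, ⊤)) := by
  have hq : QCohLib.GenOn F W (fun _ : PUnit.{u+1} => σ) := Groth.Agent.S2297.genOn_of_stalk F _ fun p hp v => by
    obtain ⟨c, hc⟩ := (hσ.genAt hp).2 v
    exact hc ▸ Submodule.smul_mem _ _ (Submodule.subset_span ⟨PUnit.unit, rfl⟩)
  let one : Γ(Coh.structureModule X, W) :=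
    (Coh.structureModule X).presheaf.map (homOfLE (le_top : W ≤ ⊤)).op (1 : Γ(X, ⊤))
  obtain ⟨g, hg⟩ := RefHullLib.exists_sec_of_values (G := Coh.structureModule X) hq (fun _ => one)
    fun y hy c hc => by
      rw [Fintype.sum_unique] at hc ⊢
      have h0 : c default = 0 := (hσ.genAt hy).1 (hc.trans (zero_smul (X.presheaf.stalk y) _).symm)
      rw [h0, zero_smul]
  refine ⟨g, fun y hy => ?_⟩
  erw [RefHull.evalStalk_germ]
  rw [← RefHullLib.germ_app, hg PUnit.unit]
  exact TopCat.Presheaf.germ_res_apply _ (homOfLE (le_top : W ≤ ⊤)) y hy _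

theorem isRef1_dual {F : X.Modules} (hF : RefHull.IsRef1 F) : RefHull.IsRef1 (RefHull.dual F) := by
  refine ⟨RefHullLib.isCoh_dual hF.1, isReflexive_dual' hF.1, ?_⟩
  obtain ⟨W, hη, σ, hσ⟩ := exists_genOn_of_genInvertible hF.2.2
  have h1 := AmpleLib.one_genOn (X := X) ⊤
  obtain ⟨gW, hgW⟩ := exists_dual_sec hσ
  refine genInvertible_of_genOn hη gW (TwistLib.genOn_of_genAt fun y hy => ?_)
  obtain ⟨θ, hθ, hθt⟩ := exists_dual_gen hF.1 (hσ.genAt hy) (h1.genAt (x := y) trivial)
  have heq : θ = (RefHull.dual F).presheaf.germ W y hy gW := by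
    refine (RefHullLib.evalStalk_bijective (G := Coh.structureModule X)
      (QCohLib.isFP_of_isCoh F hF.1) y).1 (LinearMap.ext fun w => ?_)
    obtain ⟨d, rfl⟩ := (hσ.genAt hy).2 w
    dsimp only
    rw [map_smul, map_smul, hθt, hgW y hy]
  rw [heq] at hθ
  exact hθ

end Ref1Lib

end
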