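import Groth.Agent.Ref1Lib.OrdCompare
import Groth.Agent.RefHullLib.NormalHull
import Groth.Agent.AmpleLib.Gen
import Groth.Agent.TwistLib.CoordGen
import Groth.Agent.FinPicLib.SemiLocal

/-!
# Generators of rank one reflexive modules at codimension one
-/

set_option autoImplicit false
set_option linter.style.haveILetI false
universe u

open CategoryTheory AlgebraicGeometry TopologicalSpace

noncomputable section

namespace Ref1Lib

open RefHullLib (specializes_generic mem_of_nonempty)

variable {X : Scheme.{u}}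

/-- A generator of the sections below an open of an open subscheme is one in the scheme. -/
theorem genOn_of_restrict {U : X.Opens} {F : X.Modules} {O : (U : Scheme.{u}).Opens}
    {σ : Γ(F.restrict U.ι, O)} (h : AmpleLib.GenOn (F.restrict U.ι) σ) :
    AmpleLib.GenOn F (W := U.ι ''ᵁ O) (σ : Γ(F, U.ι ''ᵁ O)) := by
  intro V hV
  have hV' : U.ι ''ᵁ (U.ι ⁻¹ᵁ V) = V := by
    rw [Scheme.Hom.image_preimage_eq_opensRange_inf, Scheme.Opens.opensRange_ι, inf_eq_right]
    exact hV.trans fun z ⟨y, _, hy⟩ => hy ▸ y.2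
  obtain ⟨V', rfl⟩ : ∃ V', U.ι ''ᵁ V' = V := ⟨_, hV'⟩
  have hle : V' ≤ O := fun y hy => by
    obtain ⟨z, hz, he⟩ := hV ⟨y, hy, rfl⟩
    rwa [U.ι.isOpenEmbedding.injective he] at hz
  have hb := (h V' hle).comp (ConcreteCategory.bijective_of_isIso (U.ι.appIso V').hom)
  refine (congrArg Function.Bijective (funext fun r => ?_)).mp hb
  exact congrArg (fun c : Γ(X, U.ι ''ᵁ V') =>
    c • (AmpleLib.res F hV (σ : Γ(F, U.ι ''ᵁ O)) : Γ(F, U.ι ''ᵁ V'))) (Iso.hom_inv_id_apply (U.ι.appIso V') r)

theorem exists_genOn_of_genInvertible [IsIntegral X] {F : X.Modules} (hF : RefHull.GenInvertible F) :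
    ∃ (W : X.Opens) (_ : genericPoint X ∈ W) (σ : Γ(F, W)), AmpleLib.GenOn F σ := by
  obtain ⟨U, hd, hinv⟩ := hF
  obtain ⟨x, hx⟩ := hd.nonempty
  obtain ⟨O, σ, hO, hσ⟩ := TwistLib.exists_genOn hinv (⟨x, hx⟩ : U)
  exact ⟨U.ι ''ᵁ O, mem_of_nonempty (x := x) ⟨_, hO, rfl⟩, _, genOn_of_restrict hσ⟩

variable [IsIntegral X]

/-- The image of a section at the generic point. -/
abbrev spec (F : X.Modules) (x : X) : F.presheaf.stalk x → F.presheaf.stalk (genericPoint X) :=
  (F.presheaf.stalkSpecializes (specializes_generic x)).hom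

theorem spec_smul (F : X.Modules) (x : X) (a : X.presheaf.stalk x) (v : F.presheaf.stalk x) :
    spec F x (a • v) = (algebraMap (X.presheaf.stalk x) X.functionField a :
      X.presheaf.stalk (genericPoint X)) • spec F x v :=
  RefHullLib.stalkSpecializes_smul F (specializes_generic x) a v

theorem spec_germ (F : X.Modules) {x : X} {U : X.Opens} (hx : x ∈ U) (s : Γ(F, U)) :
    spec F x (F.presheaf.germ U x hx s) = F.presheaf.germ U _ (mem_of_nonempty hx) s :=
  TopCat.Presheaf.germ_stalkSpecializes_apply _ hx (specializes_generic x) s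

/-- Every generic germ is, up to a nonzero scalar, in the image of the stalk at any point. -/
theorem exists_smul_eq_spec (F : X.Modules) [Coh.IsQCoh F] (x : X) (v : F.presheaf.stalk (genericPoint X)) :
    ∃ c : X.presheaf.stalk (genericPoint X), c ≠ 0 ∧ ∃ w, c • v = spec F x w := by
  obtain ⟨U, hU, hxU, -⟩ := exists_isAffineOpen_mem_and_subset (x := x) (U := (⊤ : X.Opens)) trivial
  have hηU := mem_of_nonempty hxU
  letI := Module.compHom (F.presheaf.stalk (genericPoint X)) (X.presheaf.germ U _ hηU).hom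
  haveI := FlatLib.isLocalizedModule_germLin F hU hηU
  obtain ⟨⟨a, s⟩, hs⟩ := IsLocalizedModule.surj (hU.primeIdealOf ⟨_, hηU⟩).asIdeal.primeCompl
    (FlatLib.germLin F hηU) v
  refine ⟨X.presheaf.germ U _ hηU (s : Γ(X, U)), fun h => s.2 ?_, F.presheaf.germ U x hxU a,
    hs.trans (spec_germ F hxU a).symm⟩
  rw [(germ_injective_of_isIntegral X _ hηU (h.trans (map_zero _).symm))]
  exact Ideal.zero_mem _

variable [IsLocallyNoetherian X] (hX : Pi1.IsNormalScheme X) {F : X.Modules} (hF : RefHull.IsRef1 F)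

include hF in
theorem exists_gen_generic : ∃ v : F.presheaf.stalk (genericPoint X),
    Function.Bijective (fun c : X.presheaf.stalk (genericPoint X) => c • v) := by
  obtain ⟨W, hη, σ, hσ⟩ := exists_genOn_of_genInvertible hF.2.2
  exact ⟨_, hσ.genAt hη⟩

include hF in
theorem torsionFree_stalk (x : X) : Module.IsTorsionFree (X.presheaf.stalk x) (F.presheaf.stalk x) := by
  haveI : Module.IsReflexive (X.presheaf.stalk x) (F.presheaf.stalk x) :=
    (RefHullLib.isReflexive_iff hF.1).1 hF.2.1 x
  exact RefHullLib.torsionFree_of_isReflexive (F.presheaf.stalk x)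

include hF in
theorem spec_injective (x : X) : Function.Injective (spec F x) := by
  haveI := hF.1.1
  haveI := torsionFree_stalk hF x
  exact RefHullLib.injective_stalkSpecializes_generic F x _

include hX hF in
theorem exists_gen {x : X} (hx : Order.coheight x = 1) :
    ∃ t : F.presheaf.stalk x, Submodule.span (X.presheaf.stalk x) {t} = ⊤ ∧ t ≠ 0 := by
  haveI := CDivCoreLib.isDVR_of_coheight hX hx
  haveI := hF.1.1
  haveI := DepthLib.finite_stalk F hF.1.2 x
  haveI := torsionFree_stalk hF x
  obtain ⟨n, b⟩ := Module.basisOfFiniteTypeTorsionFree' (R := X.presheaf.stalk x) (M := F.presheaf.stalk x)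
  obtain ⟨v0, hv0⟩ := exists_gen_generic hF
  match n, b with
  | 0, b =>
    exfalso
    obtain ⟨c, hc, w, hw⟩ := exists_smul_eq_spec F x v0
    have hw0 : w = 0 := b.ext_elem fun i => i.elim0
    rw [hw0] at hw
    exact hc (hv0.1 (hw.trans ((map_zero _).trans (zero_smul _ v0).symm)))
  | 1, b =>
    refine ⟨b 0, ?_, b.ne_zero 0⟩
    rw [← b.span_eq, Set.range_unique]; rfl
  | (n + 2), b =>
    exfalso
    obtain ⟨c0, h0⟩ := hv0.2 (spec F x (b 0))
    obtain ⟨c1, h1⟩ := hv0.2 (spec F x (b 1))
    have hc0 : c0 ≠ 0 := fun h => b.ne_zero 0 (spec_injective hF x (by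
      rw [← h0, h]
      exact (zero_smul _ v0).trans (map_zero _).symm))
    obtain ⟨p, q, hq, hpq⟩ := IsFractionRing.div_surjective (X.presheaf.stalk x) (c1 / c0 : X.functionField)
    have hq0 : algebraMap (X.presheaf.stalk x) X.functionField q ≠ 0 :=
      IsFractionRing.to_map_ne_zero_of_mem_nonZeroDivisors hq
    have h2 : q • b 1 = p • b 0 := spec_injective hF x (by
      rw [spec_smul, spec_smul, ← h0, ← h1]
      dsimp only
      rw [smul_smul, smul_smul]
      refine congrArg (fun c => c • v0) ?_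
      show (algebraMap (X.presheaf.stalk x) X.functionField q) * (c1 : X.functionField) =
        algebraMap (X.presheaf.stalk x) X.functionField p * (c0 : X.functionField)
      field_simp at hpq
      linear_combination -hpq)
    have h3 := congrArg (fun v => b.repr v 1) h2
    simp at h3
    exact nonZeroDivisors.ne_zero hq h3

include hF in
theorem exists_eq_smul_spec {x : X} {t : F.presheaf.stalk x} (ht : t ≠ 0) (v : F.presheaf.stalk (genericPoint X)) :
    ∃ φ : X.presheaf.stalk (genericPoint X), v = φ • spec F x t := by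
  obtain ⟨v0, hv0⟩ := exists_gen_generic hF
  obtain ⟨c, hc⟩ := hv0.2 (spec F x t)
  obtain ⟨d, hd⟩ := hv0.2 v
  have hc0 : c ≠ 0 := fun h => ht (spec_injective hF x (by
    rw [← hc, h]; exact (zero_smul _ v0).trans (map_zero _).symm))
  refine ⟨(show X.functionField from d) / (show X.functionField from c), ?_⟩
  rw [← hc, ← hd]
  dsimp only
  rw [smul_smul]
  exact congrArg (fun e => e • v0) (div_mul_cancel₀ (show X.functionField from d) hc0).symm

theorem smul_left_injective' {x : X} {t : F.presheaf.stalk x} (ht : spec F x t ≠ 0)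
    {φ ψ : X.presheaf.stalk (genericPoint X)} (h : φ • spec F x t = ψ • spec F x t) : φ = ψ := by
  by_contra hne
  have h1 : IsUnit (φ - ψ) :=
    isUnit_iff_ne_zero.2 (show (φ - ψ : X.functionField) ≠ 0 from sub_ne_zero.2 hne)
  exact ht (h1.smul_eq_zero.1 (by rw [sub_smul, h, sub_self]))

theorem maximalIdeal_smul_top (F : X.Modules) :
    (IsLocalRing.maximalIdeal (X.presheaf.stalk (genericPoint X)) •
      (⊤ : Submodule (X.presheaf.stalk (genericPoint X)) (F.presheaf.stalk (genericPoint X)))) = ⊥ := by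
  have h : IsLocalRing.maximalIdeal (X.presheaf.stalk (genericPoint X)) = ⊥ :=
    IsLocalRing.isField_iff_maximalIdeal_eq.1 (Field.toIsField X.functionField)
  rw [h, Submodule.bot_smul]

theorem mk_injective (F : X.Modules) : Function.Injective
    (Submodule.Quotient.mk : F.presheaf.stalk (genericPoint X) → Cyc.secFibre F (genericPoint X)) := fun a b h => by
  rw [Submodule.Quotient.eq, maximalIdeal_smul_top, Submodule.mem_bot, sub_eq_zero] at h
  exact h

theorem units_spec {x : X} (hx : Order.coheight x = 1) {a : X.presheaf.stalk x} (ha : IsUnit a) :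
    Scheme.ord (algebraMap (X.presheaf.stalk x) X.functionField a) x = 0 := by
  haveI : Ring.KrullDimLE 1 (X.presheaf.stalk x) := krullDimLE_of_coheight_le hx.le
  rw [Scheme.ord_eq_iff hx ((ha.map _).ne_zero), ofAdd_zero]
  exact Ring.ordFrac_of_isUnit ha

theorem span_singleton_unit {A M : Type*} [CommRing A] [IsDomain A] [AddCommGroup M] [Module A M]
    [Module.IsTorsionFree A M] {t t' : M} (h : Submodule.span A {t} = ⊤) (h' : Submodule.span A {t'} = ⊤)
    (ht : t ≠ 0) : ∃ a : A, IsUnit a ∧ t' = a • t := by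
  obtain ⟨a, ha⟩ := Submodule.mem_span_singleton.1 (h ▸ Submodule.mem_top : t' ∈ Submodule.span A {t})
  obtain ⟨b, hb⟩ := Submodule.mem_span_singleton.1 (h' ▸ Submodule.mem_top : t ∈ Submodule.span A {t'})
  refine ⟨a, isUnit_iff_exists_inv'.2 ⟨b, ?_⟩, ha.symm⟩
  have h2 : (b * a - 1) • t = 0 := by rw [sub_smul, mul_smul, ha, hb, one_smul, sub_self]
  exact sub_eq_zero.1 ((smul_eq_zero.1 h2).resolve_right ht)

include hF in
/-- The order of a rational section, computed with any generator. -/
theorem secOrdAt_eq {x : X} (hx : Order.coheight x = 1) (h : genericPoint X ⤳ x)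
    {v : F.presheaf.stalk (genericPoint X)} (hv : v ≠ 0) {t : F.presheaf.stalk x}
    (ht : Submodule.span (X.presheaf.stalk x) {t} = ⊤) (ht0 : t ≠ 0)
    {φ : X.presheaf.stalk (genericPoint X)} (hφ : v = φ • spec F x t) :
    Cyc.secOrdAt F (genericPoint X) x h (Submodule.Quotient.mk v) = Scheme.ord φ x := by
  haveI := torsionFree_stalk hF x
  have hex : ∃ t, Submodule.span (X.presheaf.stalk x) {t} = ⊤ := ⟨t, ht⟩
  obtain ⟨a, ha, hta⟩ := span_singleton_unit ht hex.choose_spec ht0
  have hφ0 : φ ≠ 0 := fun h0 => hv (by rw [hφ, h0, zero_smul])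
  have hA : algebraMap (X.presheaf.stalk x) X.functionField a ≠ 0 := (ha.map _).ne_zero
  let φ' : X.functionField := (φ : X.functionField) / algebraMap (X.presheaf.stalk x) X.functionField a
  have hφ' : v = (φ' : X.presheaf.stalk (genericPoint X)) • spec F x hex.choose := by
    rw [hta, spec_smul, smul_smul, hφ]
    exact congrArg (fun c => c • spec F x t) (div_mul_cancel₀ (φ : X.functionField) hA).symm
  have hq : ∃ ψ : X.presheaf.stalk (genericPoint X), (Submodule.Quotient.mk v : Cyc.secFibre F (genericPoint X)) =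
      ψ • (Submodule.Quotient.mk ((F.presheaf.stalkSpecializes h) hex.choose)) :=
    ⟨φ', congrArg Submodule.Quotient.mk hφ'⟩
  have hspec : spec F x hex.choose ≠ 0 := fun h0 => hv (by rw [hφ', h0, smul_zero])
  have hψ : hq.choose = φ' := smul_left_injective' hspec
    ((mk_injective F (show (Submodule.Quotient.mk v : Cyc.secFibre F (genericPoint X)) =
      Submodule.Quotient.mk (hq.choose • spec F x hex.choose) from hq.choose_spec)).symm.trans hφ')
  refine (dif_pos hex).trans ((dif_pos hq).trans ?_)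
  refine (congrArg (fun ψ => Cyc.ordAt x (genericPoint X) h (X.residue (genericPoint X) ψ)) hψ).trans ?_
  rw [ordAt_generic hx h (div_ne_zero hφ0 hA), div_eq_mul_inv]
  rw [Scheme.ord_mul hφ0 (inv_ne_zero hA), CDivCoreLib.ord_inv hA, units_spec hx ha, neg_zero, add_zero]

end Ref1Lib

end
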