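import Groth.Agent.Ref1Lib.Ops
import Groth.Agent.S16086

/-!
# Divisors of rank one reflexive modules under the group operations
-/

set_option autoImplicit false
set_option linter.style.haveILetI false
universe u

open CategoryTheory AlgebraicGeometry TopologicalSpace

noncomputable section

namespace Ref1Lib

open RefHullLib (specializes_generic mem_of_nonempty)

variable {X : Scheme.{u}} [IsIntegral X] [IsLocallyNoetherian X] (hX : Pi1.IsNormalScheme X)

/-- `D` is the divisor of some nonzero rational section of `F`. -/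
def HasDiv (F : X.Modules) (D : X → ℤ) : Prop :=
  ∃ v : F.presheaf.stalk (genericPoint X), v ≠ 0 ∧ ∀ x : X, Order.coheight x = 1 →
    Cyc.secOrdAt F (genericPoint X) x (specializes_generic x) (Submodule.Quotient.mk v) = D x

theorem exists_hasDiv {F : X.Modules} (hF : RefHull.IsRef1 F) : ∃ D, HasDiv F D := by
  obtain ⟨v, hv⟩ := exists_gen_generic hF
  exact ⟨_, v, freeGen_ne_zero hv, fun x _ => rfl⟩

include hX in
theorem hasDiv_of_iso {F G : X.Modules} (hF : RefHull.IsRef1 F) (e : F ≅ G) {D : X → ℤ} (h : HasDiv F D) :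
    HasDiv G D := by
  obtain ⟨v, hv, hD⟩ := h
  have hb := (RefHullLib.isIso_iff_stalk e.hom).1 inferInstance
  have hw : RefHull.stalkMapₗ e.hom (genericPoint X) v ≠ 0 := fun h0 =>
    hv ((hb _).1 (h0.trans (map_zero _).symm))
  refine ⟨_, hw, fun x hx => ?_⟩
  obtain ⟨t, ht⟩ := exists_freeGen hX hF hx
  obtain ⟨φ, hφ⟩ := exists_eq_smul_spec hF (freeGen_ne_zero ht) v
  rw [← hD x hx, secOrdAt_free F hx _ hv ht hφ,
    secOrdAt_free G hx _ hw (freeGen_map e.hom ht (hb x)) (φ := φ) (by rw [spec_map, hφ, map_smul])]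

include hX in
theorem nonempty_iso_of_hasDiv {F G : X.Modules} (hF : RefHull.IsRef1 F) (hG : RefHull.IsRef1 G) {D : X → ℤ}
    (h : HasDiv F D) (h' : HasDiv G D) : Nonempty (F ≅ G) := by
  obtain ⟨v, hv, hvD⟩ := h
  obtain ⟨w, hw, hwD⟩ := h'
  refine (Groth.Agent.S16086.result X hX F G hF hG (Submodule.Quotient.mk v)
    (fun h0 => hv (mk_injective F h0)) (Submodule.Quotient.mk w) (fun h0 => hw (mk_injective G h0))).2
    ⟨1, one_ne_zero, fun x hx => ?_⟩
  rw [hvD x hx, hwD x hx]
  have h1 : Scheme.ord (1 : X.functionField) x = 0 := by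
    simpa using units_spec hx (isUnit_one (M := X.presheaf.stalk x))
  rw [h1, add_zero]

theorem hasDiv_unit : HasDiv (Coh.structureModule X) (fun _ => 0) := by
  have h1 := AmpleLib.one_genOn (X := X) ⊤
  refine ⟨_, freeGen_ne_zero (h1.genAt (x := genericPoint X) trivial), fun x hx => ?_⟩
  refine (secOrdAt_free _ hx _ (freeGen_ne_zero (h1.genAt (x := genericPoint X) trivial))
    (h1.genAt (x := x) trivial) (φ := 1) ?_).trans ?_
  · rw [one_smul, spec_germ]
  · simpa using units_spec hx (isUnit_one (M := X.presheaf.stalk x))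

include hX in
theorem hasDiv_ddualTensor {F G : X.Modules} (hF : RefHull.IsRef1 F) (hG : RefHull.IsRef1 G) {D E : X → ℤ}
    (hD : HasDiv F D) (hE : HasDiv G E) :
    HasDiv (RefHull.ddual (CohB1.tensorMod F G)) (D + E) := by
  obtain ⟨v, hv, hvD⟩ := hD
  obtain ⟨w, hw, hwE⟩ := hE
  have hT := isCoh_tensor hF.1 hG.1
  obtain ⟨v0, hv0⟩ := exists_gen_generic hF
  obtain ⟨w0, hw0⟩ := exists_gen_generic hG
  obtain ⟨p, rfl⟩ := hv0.2 v
  obtain ⟨q, rfl⟩ := hw0.2 w
  have hp : p ≠ 0 := fun h0 => hv (by simp only [h0, zero_smul])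
  have hq : q ≠ 0 := fun h0 => hw (by simp only [h0, zero_smul])
  let β := RefHull.bidualMap (CohB1.tensorMod F G)
  have hβη := bijective_bidual_of_free hT (freeGen_tp hv0 hw0)
  let z := RefHull.stalkMapₗ β (genericPoint X) (tp F G (genericPoint X) (p • v0) (q • w0))
  have hz : z ≠ 0 := fun h0 => by
    have h1 := hβη.1 (h0.trans (map_zero _).symm)
    rw [tp_smul_smul] at h1
    exact mul_ne_zero (M₀ := X.functionField) hp hq ((freeGen_tp hv0 hw0).1 (h1.trans (zero_smul _ _).symm))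
  refine ⟨z, hz, fun x hx => ?_⟩
  obtain ⟨t, ht⟩ := exists_freeGen hX hF hx
  obtain ⟨s, hs⟩ := exists_freeGen hX hG hx
  obtain ⟨φ, hφ⟩ := exists_eq_smul_spec hF (freeGen_ne_zero ht) (p • v0)
  obtain ⟨ψ, hψ⟩ := exists_eq_smul_spec hG (freeGen_ne_zero hs) (q • w0)
  have hφ0 : φ ≠ 0 := fun h0 => hv (by dsimp only; rw [hφ, h0, zero_smul])
  have hψ0 : ψ ≠ 0 := fun h0 => hw (by dsimp only; rw [hψ, h0, zero_smul])
  have hgen := freeGen_map β (freeGen_tp ht hs) (bijective_bidual_of_free hT (freeGen_tp ht hs))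
  have hrel : z = (φ * ψ) • spec _ x (RefHull.stalkMapₗ β x (tp F G x t s)) := by
    rw [spec_map, spec_tp, ← map_smul, ← tp_smul_smul, ← hφ, ← hψ]
  rw [secOrdAt_free _ hx _ hz hgen hrel, Pi.add_apply, ← hvD x hx, ← hwE x hx,
    secOrdAt_free F hx _ hv ht hφ, secOrdAt_free G hx _ hw hs hψ]
  exact Scheme.ord_mul (X := X) hφ0 hψ0

include hX in
theorem hasDiv_dual {F : X.Modules} (hF : RefHull.IsRef1 F) {D : X → ℤ} (hD : HasDiv F D) :
    HasDiv (RefHull.dual F) (-D) := by
  obtain ⟨v, hv, hvD⟩ := hD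
  have h1 := AmpleLib.one_genOn (X := X) ⊤
  let one : ∀ y : X, (Coh.structureModule X).presheaf.stalk y := fun y =>
    (Coh.structureModule X).presheaf.germ ⊤ y trivial (1 : Γ(X, ⊤))
  obtain ⟨v0, hv0⟩ := exists_gen_generic hF
  obtain ⟨p, rfl⟩ := hv0.2 v
  have hp : p ≠ 0 := fun h0 => hv (by simp only [h0, zero_smul])
  have hgv : FreeGen F (genericPoint X) (p • v0) := by
    refine (congrArg Function.Bijective (funext fun c => ?_)).mp
      (hv0.comp (show Function.Bijective (fun c : X.presheaf.stalk (genericPoint X) => c * p) from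
        mulRight_bijective₀ (G₀ := X.functionField) p hp))
    exact mul_smul c p v0
  obtain ⟨z, hz, hzv⟩ := exists_dual_gen hF.1 hgv (u := one _) (h1.genAt (x := genericPoint X) trivial)
  refine ⟨z, freeGen_ne_zero hz, fun x hx => ?_⟩
  obtain ⟨t, ht⟩ := exists_freeGen hX hF hx
  obtain ⟨φ, hφ⟩ := exists_eq_smul_spec hF (freeGen_ne_zero ht) (p • v0)
  obtain ⟨θ, hθ, hθt⟩ := exists_dual_gen hF.1 ht (u := one x) (h1.genAt (x := x) trivial)
  have hφ0 : φ ≠ 0 := fun h0 => hv (by dsimp only; rw [hφ, h0, zero_smul])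
  obtain ⟨ψ, hψ⟩ := exists_eq_smul_spec (isRef1_dual hF) (freeGen_ne_zero hθ) z
  have hrel : (φ : X.functionField) * (ψ : X.functionField) = 1 := by
    refine (h1.genAt (x := genericPoint X) trivial).1 ?_
    show (φ * ψ : X.presheaf.stalk (genericPoint X)) • one _ = (1 : X.presheaf.stalk (genericPoint X)) • one _
    refine Eq.trans ?_ (hzv.trans (one_smul _ _).symm)
    rw [hψ, hφ, map_smul, map_smul, LinearMap.smul_apply, ← spec_eval, hθt, smul_smul]
    exact congrArg _ (spec_germ (Coh.structureModule X) (U := ⊤) (x := x) trivial _).symm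
  have hψ0 : (ψ : X.functionField) ≠ 0 := right_ne_zero_of_mul (by rw [hrel]; exact one_ne_zero)
  rw [secOrdAt_free _ hx _ (freeGen_ne_zero hz) hθ hψ, Pi.neg_apply, ← hvD x hx, secOrdAt_free F hx _ hv ht hφ]
  have h2 := congrArg (fun a : X.functionField => Scheme.ord a x) hrel
  rw [Scheme.ord_mul hφ0 hψ0] at h2
  have h3 : Scheme.ord (1 : X.functionField) x = 0 := by
    simpa using units_spec hx (isUnit_one (M := X.presheaf.stalk x))
  rw [h3] at h2
  have e : Scheme.ord (φ : X.functionField) x + Scheme.ord (ψ : X.functionField) x = 0 := h2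
  omega

end Ref1Lib

end
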