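import Groth.Agent.Ref1Lib.Ops
import Groth.Agent.QCohLib.AffineFinite

/-!
# Invertible modules are reflexive of rank one
-/

set_option autoImplicit false
universe u

open CategoryTheory AlgebraicGeometry TopologicalSpace

noncomputable section

namespace Ref1Lib

variable {X : Scheme.{u}} [IsIntegral X] [IsLocallyNoetherian X]

theorem isRef1_of_invertible {L : X.Modules} (hL : PicF.IsInvertible L) : RefHull.IsRef1 L := by
  have hft : CohB1.IsFT L := QCohLib.isFT_of_forall fun p => by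
    obtain ⟨U, σ, hpU, hσ⟩ := TwistLib.exists_genOn hL p
    refine ⟨U, hpU, 1, fun _ => σ, Groth.Agent.S2297.genOn_of_stalk L _ fun y hy v => ?_⟩
    obtain ⟨c, hc⟩ := (hσ.genAt hy).2 v
    exact hc ▸ Submodule.smul_mem _ _ (Submodule.subset_span ⟨⟨0⟩, rfl⟩)
  have hc : Coh.IsCoh L := ⟨TwistLib.isQCoh_of_isInvertible hL, hft⟩
  refine ⟨hc, (RefHullLib.isReflexive_iff hc).2 fun x => ?_, ?_⟩
  · obtain ⟨U, σ, hxU, hσ⟩ := TwistLib.exists_genOn hL x
    exact (RefHullLib.bijective_stalk_bidual_iff hc x).1 (bijective_bidual_of_free hc (hσ.genAt hxU))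
  · obtain ⟨U, σ, hU, hσ⟩ := TwistLib.exists_genOn hL (genericPoint X)
    exact genInvertible_of_genOn hU σ hσ

end Ref1Lib

end
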