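import Groth.Agent.Ref1Lib.Ops

/-!
# Rank one reflexive modules at factorial points
-/

set_option autoImplicit false
set_option linter.style.haveILetI false
universe u

open CategoryTheory AlgebraicGeometry TopologicalSpace

noncomputable section

namespace Ref1Lib

open RefHullLib (specializes_generic mem_of_nonempty)

variable {X : Scheme.{u}} [IsIntegral X] [IsLocallyNoetherian X] {F : X.Modules} (hF : RefHull.IsRef1 F)

include hF in
theorem exists_freeGen_of_ufd (x : X) [UniqueFactorizationMonoid (X.presheaf.stalk x)] :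
    ∃ t, FreeGen F x t := by
  let R := X.presheaf.stalk x
  haveI := hF.1.1
  haveI := DepthLib.finite_stalk F hF.1.2 x
  haveI := torsionFree_stalk hF x
  haveI : Module.IsReflexive R (F.presheaf.stalk x) := (RefHullLib.isReflexive_iff hF.1).1 hF.2.1 x
  obtain ⟨v0, hv0⟩ := exists_gen_generic hF
  choose c hc using fun w => hv0.2 (spec F x w)
  let l : F.presheaf.stalk x →ₗ[R] X.functionField :=
    { toFun := fun w => c w
      map_add' := fun a b => hv0.1 (by
        show c (a + b) • v0 = (c a + c b : X.presheaf.stalk (genericPoint X)) • v0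
        rw [add_smul]
        exact (hc (a + b)).trans ((map_add _ a b).trans (congrArg₂ (· + ·) (hc a).symm (hc b).symm)))
      map_smul' := fun r a => hv0.1 (by
        show c (r • a) • v0 = ((algebraMap R X.functionField r * c a : X.functionField) :
          X.presheaf.stalk (genericPoint X)) • v0
        refine (hc (r • a)).trans ?_
        rw [spec_smul, ← hc a, smul_smul]) }
  have hl : Function.Injective l := fun a b h => spec_injective hF x
    ((hc a).symm.trans ((congrArg (fun d => d • v0) (show c a = c b from h)).trans (hc b)))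
  obtain ⟨I, ⟨e⟩⟩ := RefHullLib.exists_equiv_ideal (K := X.functionField) (F.presheaf.stalk x) l hl
    (Module.finrank_self _)
  haveI := RefHullLib.free_of_isReflexive_of_ideal (F.presheaf.stalk x) e
  have hrank : Module.finrank R (F.presheaf.stalk x) = 1 := by
    obtain ⟨k, hk, w, hw⟩ := exists_smul_eq_spec F x v0
    have hw0 : w ≠ 0 := fun h0 => hk (hv0.1 (hw.trans ((congrArg (spec F x) h0).trans
      ((map_zero _).trans (zero_smul _ v0).symm))))
    haveI : Nontrivial (F.presheaf.stalk x) := ⟨⟨w, 0, hw0⟩⟩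
    haveI : Nontrivial I := e.symm.toEquiv.nontrivial
    rw [e.finrank_eq]
    exact le_antisymm ((Submodule.finrank_le I).trans (Module.finrank_self R).le) Module.finrank_pos
  obtain ⟨b⟩ : Nonempty (Module.Basis (Fin 1) R (F.presheaf.stalk x)) :=
    ⟨(Module.finBasis R _).reindex (finCongr hrank)⟩
  refine ⟨b 0, smul_left_injective _ (b.ne_zero 0), fun z => ⟨b.repr z 0, ?_⟩⟩
  have := b.sum_repr z
  rwa [Fin.sum_univ_one] at this

include hF in
/-- A free generator of a stalk generates on a neighbourhood. -/
theorem exists_genOn_of_freeGen {x : X} {t : F.presheaf.stalk x} (ht : FreeGen F x t) :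
    ∃ (U : X.Opens) (_ : x ∈ U) (σ : Γ(F, U)), AmpleLib.GenOn F σ := by
  classical
  haveI := hF.1.1
  obtain ⟨V, hxV, τ, rfl⟩ := F.presheaf.exists_germ_eq (x := x) t
  obtain ⟨A, hA, hxA, hAV⟩ := exists_isAffineOpen_mem_and_subset (x := x) (U := V) hxV
  obtain ⟨I, _, e, he⟩ := QCohLib.exists_genOn_affine hF.1.2 hA
  choose c hc using fun i => ht.2 (F.presheaf.germ A x hxA (e i))
  choose Wc hWc r hr using fun i => X.presheaf.exists_germ_eq (x := x) (c i)
  obtain ⟨W, hxW, hWA, hWc'⟩ := RefHullLib.exists_nhd_all x Wc hWc A hxA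
  obtain ⟨U, hUW, hxU, hU⟩ := RefHullLib.exists_nhd_zero (M := F) hxW
    (fun i => X.presheaf.map (homOfLE (hWc' i)).op (r i) • F.presheaf.map (homOfLE (hWA.trans hAV)).op τ -
      F.presheaf.map (homOfLE hWA).op (e i)) fun i => by
      rw [map_sub, Mero.germ_smul, TopCat.Presheaf.germ_res_apply, TopCat.Presheaf.germ_res_apply,
        TopCat.Presheaf.germ_res_apply, hr, sub_eq_zero]
      exact hc i
  refine ⟨U, hxU, AmpleLib.res F ((hUW.trans hWA).trans hAV) τ, TwistLib.genOn_of_genAt fun y hy => ?_⟩
  have hne : F.presheaf.germ V y ((hUW.trans hWA).trans hAV hy) τ ≠ 0 := fun h => by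
    refine freeGen_ne_zero ht (spec_injective hF x ?_)
    refine (spec_germ F hxV τ).trans (((spec_germ F ((hUW.trans hWA).trans hAV hy) τ).symm.trans ?_).trans (map_zero _).symm)
    rw [h]
    exact map_zero _
  haveI := torsionFree_stalk hF y
  show Function.Bijective fun a : X.presheaf.stalk y => a • F.presheaf.germ U y hy (AmpleLib.res F _ τ)
  rw [AmpleLib.germ_res]
  refine ⟨smul_left_injective _ hne, fun z => ?_⟩
  obtain ⟨d, rfl⟩ := (RefHullLib.surjective_of_genOn he y (hWA (hUW hy))) z
  rw [Fintype.linearCombination_apply]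
  refine ⟨∑ i, d i * X.presheaf.germ (Wc i) y (hWc' i (hUW hy)) (r i), ?_⟩
  dsimp only
  rw [Finset.sum_smul]
  refine Finset.sum_congr rfl fun i _ => ?_
  have h1 := hU i y hy
  rw [map_sub, Mero.germ_smul, TopCat.Presheaf.germ_res_apply, TopCat.Presheaf.germ_res_apply,
    TopCat.Presheaf.germ_res_apply, sub_eq_zero] at h1
  rw [mul_smul, h1]

end Ref1Lib

end
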