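import Groth.Agent.Ref1Lib.Finite
import Groth.Prelude.Def_MeroSh

/-!
# The reflexive module of a Weil divisor
-/

set_option autoImplicit false
set_option linter.style.haveILetI false
universe u

open CategoryTheory AlgebraicGeometry TopologicalSpace Opposite

noncomputable section

namespace Ref1Lib

open RefHullLib (specializes_generic mem_of_nonempty)

variable {X : Scheme.{u}} [IsIntegral X] [IsLocallyNoetherian X] (D : X → ℤ)

/-- `div f + D ≥ 0` at `x`. -/
def Cond (x : X) (f : X.functionField) : Prop :=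
  f ≠ 0 → Order.coheight x = 1 → 0 ≤ Scheme.ord f x + D x

/-- Constant families satisfying the order condition. -/
def divPred : TopCat.LocalPredicate (fun _ : X => (X.functionField : Type u)) where
  pred {U} f := (∀ a b : U, f a = f b) ∧ ∀ a : U, Cond D a.1 (f a)
  res {V U} i f h := ⟨fun a b => h.1 (i a) (i b), fun a => h.2 (i a)⟩
  locality {U} f h := by
    refine ⟨fun a b => ?_, fun a => ?_⟩
    · obtain ⟨V, haV, i, hV⟩ := h a
      obtain ⟨W, hbW, j, hW⟩ := h b
      have h1 := hV.1 ⟨a.1, haV⟩ ⟨genericPoint X, mem_of_nonempty haV⟩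
      have h2 := hW.1 ⟨b.1, hbW⟩ ⟨genericPoint X, mem_of_nonempty hbW⟩
      exact h1.trans h2.symm
    · obtain ⟨V, haV, i, hV⟩ := h a
      exact hV.2 ⟨a.1, haV⟩

variable (hX : Pi1.IsNormalScheme X)

include hX in
theorem cond_smul {x : X} {f : X.functionField} (r : X.presheaf.stalk x) (h : Cond D x f) :
    Cond D x (r • f) := fun hne hx => by
  rw [Algebra.smul_def] at hne ⊢
  obtain ⟨hr, hf⟩ := mul_ne_zero_iff.1 hne
  rw [Scheme.ord_mul hr hf]
  have := CDivCoreLib.ord_nonneg_of_reg hX hx hr ⟨r, rfl⟩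
  have := h hf hx
  omega

include hX in
theorem cond_add {x : X} {f g : X.functionField} (hf : Cond D x f) (hg : Cond D x g) :
    Cond D x (f + g) := fun hne hx => by
  by_cases hf0 : f = 0
  · rw [hf0, zero_add] at hne ⊢; exact hg hne hx
  by_cases hg0 : g = 0
  · rw [hg0, add_zero] at hne ⊢; exact hf hne hx
  haveI := CDivCoreLib.isDVR_of_coheight hX hx
  have := Scheme.ord_add (x := x) hne
  have := hf hf0 hx
  have := hg hg0 hx
  omega

theorem isModPred (hX : Pi1.IsNormalScheme X) : Mero.IsModPred (divPred D) where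
  zero U := ⟨fun _ _ => rfl, fun _ h => absurd rfl h⟩
  add U f g hf hg := ⟨fun a b => by
      show f a + g a = f b + g b
      rw [hf.1 a b, hg.1 a b],
    fun a => cond_add D hX (hf.2 a) (hg.2 a)⟩
  smul U r f hf := ⟨fun a b => by
      show algebraMap _ X.functionField (X.presheaf.germ U a.1 a.2 r) * f a =
        algebraMap _ X.functionField (X.presheaf.germ U b.1 b.2 r) * f b
      rw [CDivCoreLib.algebraMap_germ a.2 (mem_of_nonempty a.2),
        CDivCoreLib.algebraMap_germ b.2 (mem_of_nonempty a.2), hf.1 a b],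
    fun a => cond_smul D hX _ (hf.2 a)⟩

/-- The module `O(D)`. -/
def divMod : X.Modules := @Mero.modOf X (fun _ => (X.functionField : Type u)) _ _ (divPred D) (isModPred D hX)

/-- The rational function underlying a section over a nonempty open. -/
def val {U : X.Opens} (hη : genericPoint X ∈ U) (s : Γ(divMod D hX, U)) : X.functionField :=
  (s.1 ⟨genericPoint X, hη⟩ : X.functionField)

theorem sec_ext {U : X.Opens} (s t : Γ(divMod D hX, U))
    (h : ∀ hη : genericPoint X ∈ U, val D hX hη s = val D hX hη t) : s = t :=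
  Subtype.ext (funext fun a => ((s.2.1 a _).trans (h (mem_of_nonempty a.2))).trans (t.2.1 _ a))

theorem cond_val {U : X.Opens} (hη : genericPoint X ∈ U) (s : Γ(divMod D hX, U)) {x : X} (hx : x ∈ U) :
    Cond D x (val D hX hη s) := by
  have := s.2.2 ⟨x, hx⟩
  rwa [s.2.1 ⟨x, hx⟩ ⟨_, hη⟩] at this

/-- The section with a given rational function. -/
def mkSec {U : X.Opens} (f : X.functionField) (h : ∀ x ∈ U, Cond D x f) : Γ(divMod D hX, U) :=
  ⟨fun _ => f, fun _ _ => rfl, fun a => h a.1 a.2⟩

theorem val_mkSec {U : X.Opens} (hη : genericPoint X ∈ U) (f : X.functionField) (h : ∀ x ∈ U, Cond D x f) :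
    val D hX hη (mkSec D hX f h) = f := rfl

theorem val_res {U V : X.Opens} (i : V ≤ U) (hη : genericPoint X ∈ V) (s : Γ(divMod D hX, U)) :
    val D hX hη ((divMod D hX).presheaf.map (homOfLE i).op s) = val D hX (i hη) s := rfl

theorem val_zero {U : X.Opens} (hη : genericPoint X ∈ U) : val D hX hη (0 : Γ(divMod D hX, U)) = 0 := rfl

theorem val_add {U : X.Opens} (hη : genericPoint X ∈ U) (s t : Γ(divMod D hX, U)) :
    val D hX hη (s + t) = val D hX hη s + val D hX hη t := rfl

theorem val_smul {U : X.Opens} (hη : genericPoint X ∈ U) (r : Γ(X, U)) (s : Γ(divMod D hX, U)) :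
    val D hX hη (r • s) = X.presheaf.germ U _ hη r * val D hX hη s := by
  have h : ∀ a : U, ((r • s).1 a : X.functionField) =
      X.presheaf.germ U _ hη r * (s.1 a : X.functionField) := fun a => by
    show algebraMap (X.presheaf.stalk a.1) X.functionField (X.presheaf.germ U a.1 a.2 r) * s.1 a = _
    rw [CDivCoreLib.algebraMap_germ a.2 hη]
  exact h ⟨_, hη⟩

theorem val_germ_eq {x : X} {U V : X.Opens} (hU : x ∈ U) (hV : x ∈ V) (s : Γ(divMod D hX, U))
    (t : Γ(divMod D hX, V)) :
    (divMod D hX).presheaf.germ U x hU s = (divMod D hX).presheaf.germ V x hV t ↔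
      val D hX (mem_of_nonempty hU) s = val D hX (mem_of_nonempty hV) t := by
  constructor
  · intro h
    obtain ⟨W, hxW, i₁, i₂, hW⟩ := (divMod D hX).presheaf.germ_eq x hU hV s t h
    exact congrArg (val D hX (mem_of_nonempty hxW)) hW
  · intro h
    have e : (divMod D hX).presheaf.map (homOfLE (inf_le_left : U ⊓ V ≤ U)).op s =
        (divMod D hX).presheaf.map (homOfLE (inf_le_right : U ⊓ V ≤ V)).op t :=
      sec_ext D hX _ _ fun _ => h
    rw [← TopCat.Presheaf.germ_res_apply (divMod D hX).presheaf (homOfLE (inf_le_left : U ⊓ V ≤ U)) x ⟨hU, hV⟩ s,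
      e, TopCat.Presheaf.germ_res_apply]

end Ref1Lib

end
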