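import Groth.Agent.Ref1Lib.Gen

/-!
# Finitely many codimension one points off an open
-/

set_option autoImplicit false
set_option linter.style.haveILetI false
universe u

open CategoryTheory AlgebraicGeometry TopologicalSpace

noncomputable section

namespace Ref1Lib

variable {X : Scheme.{u}} [IsIntegral X] [IsLocallyNoetherian X]

omit [IsLocallyNoetherian X] in
theorem ne_generic_of_coheight {x : X} (hx : Order.coheight x = 1) : x ≠ genericPoint X := fun h => by
  have h0 : Order.coheight (genericPoint X) = 0 := Order.coheight_eq_zero.2 fun y _ =>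
    Scheme.le_iff_specializes.2 (RefHullLib.specializes_generic y)
  rw [h, h0] at hx
  exact zero_ne_one hx

theorem finite_coheight_one_inter (U : X.Opens) (hU : genericPoint X ∈ U) {V : X.Opens} (hV : IsAffineOpen V) :
    {x : X | Order.coheight x = 1 ∧ x ∈ V ∧ x ∉ U}.Finite := by
  classical
  haveI : IsNoetherianRing Γ(X, V) := IsLocallyNoetherian.component_noetherian ⟨V, hV⟩
  haveI : TopologicalSpace.NoetherianSpace (V : Set X) := AlgebraicGeometry.noetherianSpace_of_isAffineOpen V hV
  let T : Set X := (U : Set X)ᶜ ∩ (V : Set X)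
  haveI : TopologicalSpace.NoetherianSpace T :=
    (Topology.IsEmbedding.inclusion (Set.inter_subset_right : T ⊆ (V : Set X))).isInducing.noetherianSpace
  have hmax : ∀ ξ : X, Order.coheight ξ = 1 → ∀ ζ : X, ζ ∉ U → ζ ⤳ ξ → ξ ⤳ ζ := by
    intro ξ hξ ζ hζU hsp
    by_contra hn
    have hlt : ξ < ζ := lt_of_le_not_ge (Scheme.le_iff_specializes.2 hsp) fun h => hn (Scheme.le_iff_specializes.1 h)
    have h2 := Order.coheight_add_one_le hlt
    rw [hξ] at h2
    have h1 : Order.coheight ζ = 0 := by
      by_contra h3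
      have h4 : (2 : ℕ∞) ≤ Order.coheight ζ + 1 :=
        le_trans (by norm_num) (add_le_add (Order.one_le_iff_pos.2 (pos_iff_ne_zero.2 h3)) (le_refl (1 : ℕ∞)))
      exact absurd (h4.trans h2) (by norm_num)
    have hmax : IsMax ζ := Order.coheight_eq_zero.mp h1
    have : ζ ⤳ genericPoint X := Scheme.le_iff_specializes.1
      (hmax (b := genericPoint X) (Scheme.le_iff_specializes.2 (RefHullLib.specializes_generic ζ)))
    exact hζU (this.mem_open U.isOpen hU)
  let g : irreducibleComponents T → X := fun C =>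
    (IsIrreducible.image C.2.1 Subtype.val continuous_subtype_val.continuousOn).genericPoint
  haveI : Finite (irreducibleComponents T) := TopologicalSpace.NoetherianSpace.finite_irreducibleComponents
  refine (Set.finite_range g).subset ?_
  rintro ξ ⟨hξ, hξV, hξU⟩
  have hξT : ξ ∈ T := ⟨hξU, hξV⟩
  let C : irreducibleComponents T :=
    ⟨irreducibleComponent (⟨ξ, hξT⟩ : T), irreducibleComponent_mem_irreducibleComponents _⟩
  have hgp : IsGenericPoint (g C) (closure (Subtype.val '' C.1)) :=
    (IsIrreducible.image C.2.1 Subtype.val continuous_subtype_val.continuousOn).isGenericPoint_genericPoint_closure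
  have hsp : g C ⤳ ξ := hgp.specializes (subset_closure ⟨_, mem_irreducibleComponent, rfl⟩)
  have hgU : g C ∉ U := by
    have : closure (Subtype.val '' C.1) ⊆ (U : Set X)ᶜ :=
      closure_minimal (by rintro _ ⟨y, -, rfl⟩; exact y.2.1) U.isOpen.isClosed_compl
    exact this hgp.mem
  exact ⟨C, (hsp.antisymm (hmax ξ hξ (g C) hgU hsp)).eq⟩

/-- A function with locally finite support is finite on affine opens. -/
theorem finite_support_affine (D : AlgebraicCycle X ℤ) {V : X.Opens} (hV : IsAffineOpen V) :
    {x : X | x ∈ V ∧ D x ≠ 0}.Finite :=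
  LocallyFiniteSupport.finite_inter_support_of_isCompact
    (Function.locallyFinsupp.locallyFiniteSupport D) hV.isCompact

/-- The order of a nonzero rational function is nonzero at only finitely many points of an affine open. -/
theorem finite_ord_affine (hX : Pi1.IsNormalScheme X) {f : X.functionField} (hf : f ≠ 0) {V : X.Opens}
    (hV : IsAffineOpen V) : {x : X | Order.coheight x = 1 ∧ x ∈ V ∧ Scheme.ord f x ≠ 0}.Finite := by
  obtain ⟨U₁, h₁, hU₁⟩ := CDivCoreLib.exists_nhd_reg (CDivCoreLib.reg_generic f)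
  obtain ⟨U₂, h₂, hU₂⟩ := CDivCoreLib.exists_nhd_reg (CDivCoreLib.reg_generic f⁻¹)
  refine (finite_coheight_one_inter (U₁ ⊓ U₂) ⟨h₁, h₂⟩ hV).subset ?_
  rintro x ⟨hx, hxV, hne⟩
  exact ⟨hx, hxV, fun h => hne ((CDivCoreLib.ord_eq_zero_iff hX hx hf).2 ⟨hU₁ x h.1, hU₂ x h.2⟩)⟩

end Ref1Lib

end
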