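import Groth.Agent.CDivCoreLib.Normal
import Groth.Agent.RefHullLib.Generic
import Groth.Prelude.Def_C1

/-!
# Orders at codimension one points: the cycle order agrees with Mathlib's
-/

set_option autoImplicit false
set_option linter.style.haveILetI false
universe u

open CategoryTheory AlgebraicGeometry TopologicalSpace

noncomputable section

namespace Ref1Lib

theorem length_quotient_ringEquiv {R S : Type u} [CommRing R] [CommRing S] (e : R ≃+* S) (a : R) :
    Ring.ord S (e a) = Ring.ord R a := by
  letI := e.toRingHom.toAlgebra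
  have hs : Function.Surjective (algebraMap R S) := e.surjective
  let f : R ≃ₗ[R] S := LinearEquiv.ofBijective (Algebra.linearMap R S) e.bijective
  have hmap : Submodule.map (f : R →ₗ[R] S) (Ideal.span {a}) = (Ideal.span {e a}).restrictScalars R := by
    refine le_antisymm (Submodule.map_le_iff_le_comap.2 fun r hr => ?_) fun s hs' => ?_
    · obtain ⟨c, rfl⟩ := Ideal.mem_span_singleton'.1 hr
      exact Ideal.mem_span_singleton'.2 ⟨e c, (map_mul e c a).symm⟩
    · obtain ⟨c, rfl⟩ := Ideal.mem_span_singleton'.1 (show s ∈ Ideal.span {e a} from hs')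
      exact ⟨e.symm c * a, Ideal.mem_span_singleton'.2 ⟨_, rfl⟩,
        (map_mul e _ a).trans (by rw [e.apply_symm_apply])⟩
  have q := (Submodule.Quotient.equiv _ _ f hmap).trans
    (Submodule.Quotient.restrictScalarsEquiv R (Ideal.span {e a}))
  rw [Ring.ord, Ring.ord]
  exact (Module.length_eq_of_surjective hs).symm.trans q.length_eq.symm

variable {X : Scheme.{u}} [IsIntegral X] [IsLocallyNoetherian X]

theorem residue_generic_injective : Function.Injective (X.residue (genericPoint X)).hom :=
  RingHom.injective (R := X.functionField) (X.residue (genericPoint X)).hom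

theorem ordAt_generic {x : X} (hx : Order.coheight x = 1) (h : genericPoint X ⤳ x)
    {f : X.functionField} (hf : f ≠ 0) :
    Cyc.ordAt x (genericPoint X) h (X.residue (genericPoint X) f) = Scheme.ord f x := by
  haveI : Ring.KrullDimLE 1 (X.presheaf.stalk x) := krullDimLE_of_coheight_le hx.le
  let η := genericPoint X
  have hker : RingHom.ker (Cyc.specMap x η h) = ⊥ := by
    refine (RingHom.injective_iff_ker_eq_bot _).1 ?_
    exact residue_generic_injective.comp (IsFractionRing.injective (X.presheaf.stalk x) X.functionField)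
  let e : X.presheaf.stalk x ≃+* Cyc.LocQuot x η h :=
    RingEquiv.ofBijective (Ideal.Quotient.mk _) ⟨(RingHom.injective_iff_ker_eq_bot _).2
      (by rw [Ideal.mk_ker, hker]), Ideal.Quotient.mk_surjective⟩
  have he : ∀ a, algebraMap (Cyc.LocQuot x η h) (X.residueField η) (e a) =
      X.residue η (algebraMap (X.presheaf.stalk x) X.functionField a) := fun a => rfl
  haveI : Nontrivial (Cyc.LocQuot x η h) := e.symm.toEquiv.nontrivial
  haveI : IsNoetherianRing (Cyc.LocQuot x η h) := isNoetherianRing_of_ringEquiv (R := X.presheaf.stalk x) e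
  haveI : Ring.KrullDimLE 1 (Cyc.LocQuot x η h) :=
    Ring.krullDimLE_iff.2 ((ringKrullDim_eq_of_ringEquiv e).symm.le.trans (Ring.krullDimLE_iff.1 ‹_›))
  haveI : IsFractionRing (Cyc.LocQuot x η h) (X.residueField η) := by
    have hinj : Function.Injective (algebraMap (Cyc.LocQuot x η h) (X.residueField η)) := fun a b hab => by
      obtain ⟨a, rfl⟩ := e.surjective a
      obtain ⟨b, rfl⟩ := e.surjective b
      rw [he, he] at hab
      exact congrArg e (IsFractionRing.injective (X.presheaf.stalk x) X.functionField
        (residue_generic_injective hab))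
    haveI : FaithfulSMul (Cyc.LocQuot x η h) (X.residueField η) :=
      (faithfulSMul_iff_algebraMap_injective _ _).2 hinj
    refine IsFractionRing.of_field _ _ fun z => ?_
    obtain ⟨φ, rfl⟩ := X.residue_surjective η z
    obtain ⟨a, b, -, hab⟩ := IsFractionRing.div_surjective (X.presheaf.stalk x) (φ : X.functionField)
    refine ⟨e a, e b, ?_⟩
    rw [he, he, ← hab]
    exact (map_div₀ (X.residue η).hom (algebraMap (X.presheaf.stalk x) X.functionField a) _)
  obtain ⟨a, b, hb, hab⟩ := IsFractionRing.div_surjective (X.presheaf.stalk x) f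
  have hb0 : b ≠ 0 := nonZeroDivisors.ne_zero hb
  have ha0 : a ≠ 0 := fun h0 => hf (by rw [← hab, h0, map_zero, zero_div])
  have key : ∀ c : X.presheaf.stalk x, c ≠ 0 →
      Ring.ordFrac (Cyc.LocQuot x η h) (algebraMap (Cyc.LocQuot x η h) (X.residueField η) (e c)) =
        Ring.ordFrac (X.presheaf.stalk x) (algebraMap (X.presheaf.stalk x) X.functionField c) := fun c hc => by
    haveI : IsDomain (Cyc.LocQuot x η h) := e.symm.toMulEquiv.isDomain
    have hec : e c ≠ 0 := fun h0 => hc (e.injective (h0.trans (map_zero e).symm))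
    rw [Ring.ordFrac_eq_ord _ hec, Ring.ordFrac_eq_ord _ hc,
      Ring.ordMonoidWithZeroHom_eq_ord (mem_nonZeroDivisors_of_ne_zero hec),
      Ring.ordMonoidWithZeroHom_eq_ord (mem_nonZeroDivisors_of_ne_zero hc), length_quotient_ringEquiv]
  have hres : X.residue η f = algebraMap (Cyc.LocQuot x η h) (X.residueField η) (e a) /
      algebraMap (Cyc.LocQuot x η h) (X.residueField η) (e b) := by
    rw [he, he, ← hab]
    exact (map_div₀ (X.residue η).hom (algebraMap (X.presheaf.stalk x) X.functionField a) _)
  have h2 : Scheme.ordHom x hx f = Ring.ordFrac (Cyc.LocQuot x η h) (X.residue η f) := by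
    show Ring.ordFrac (X.presheaf.stalk x) f = _
    rw [hres, ← hab, map_div₀, map_div₀, key a ha0, key b hb0]
  rw [Cyc.ordAt, CycAlg.ordFrac, dif_pos ⟨inferInstance, inferInstance, inferInstance, inferInstance⟩, ← h2,
    Scheme.ord_eq_ordHom_of_coheight_eq_one hx]
  cases Scheme.ordHom x hx f <;> rfl

end Ref1Lib

end
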