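import Groth.Agent.Ref1Lib.OrdCompare

/-!
# Orders along an open immersion
-/

set_option autoImplicit false
set_option linter.style.haveILetI false
universe u

open CategoryTheory AlgebraicGeometry TopologicalSpace

noncomputable section

namespace Ref1Lib

variable {U X : Scheme.{u}} [IsIntegral X] [IsIntegral U] (f : U ⟶ X) [IsOpenImmersion f]

/-- The map of function fields of an open immersion. -/
def ffMap : X.functionField →+* U.functionField :=
  (f.stalkMap (genericPoint U)).hom.comp
    (X.presheaf.stalkSpecializes (x := f (genericPoint U)) (y := genericPoint X)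
      (specializes_of_eq (genericPoint_eq_of_isOpenImmersion f))).hom

theorem ffMap_bijective : Function.Bijective (ffMap f) := by
  refine (ConcreteCategory.bijective_of_isIso (f.stalkMap (genericPoint U))).comp ?_
  have key : ∀ (z : X) (h : z = genericPoint X), Function.Bijective
      (X.presheaf.stalkSpecializes (specializes_of_eq h)).hom := by
    rintro z rfl
    rw [TopCat.Presheaf.stalkSpecializes_refl]
    exact Function.bijective_id
  exact key _ (genericPoint_eq_of_isOpenImmersion f)

theorem ffMap_algebraMap (u : U) (a : X.presheaf.stalk (f u)) :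
    ffMap f (algebraMap (X.presheaf.stalk (f u)) X.functionField a) =
      algebraMap (U.presheaf.stalk u) U.functionField (f.stalkMap u a) := by
  have hu : genericPoint U ⤳ u := (genericPoint_spec U).specializes trivial
  refine Eq.trans ?_ (Scheme.Hom.stalkSpecializes_stalkMap_apply f _ u hu a)
  show f.stalkMap (genericPoint U) (X.presheaf.stalkSpecializes _ (X.presheaf.stalkSpecializes _ a)) = _
  refine congrArg (f.stalkMap (genericPoint U)).hom ?_
  exact congr($(TopCat.Presheaf.stalkSpecializes_comp X.presheaf
    (specializes_of_eq (genericPoint_eq_of_isOpenImmersion f))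
    ((genericPoint_spec X).specializes (Set.mem_univ (f u)))) a)

variable [IsLocallyNoetherian X] [IsLocallyNoetherian U]

theorem ord_ffMap (g : X.functionField) (u : U) :
    Scheme.ord (ffMap f g) u = Scheme.ord g (f u) := by
  by_cases hu : Order.coheight u = 1
  swap
  · rw [Scheme.ord_eq_zero_of_coheight_neq_one hu,
      Scheme.ord_eq_zero_of_coheight_neq_one (by rwa [show f u = f.base u from rfl, coheight_eq_of_isOpenImmersion f])]
  have hx : Order.coheight (f u) = 1 := (coheight_eq_of_isOpenImmersion f).trans hu
  by_cases hg : g = 0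
  · subst hg; rw [map_zero, Scheme.ord_zero, Scheme.ord_zero]; rfl
  haveI : Ring.KrullDimLE 1 (X.presheaf.stalk (f u)) := krullDimLE_of_coheight_le hx.le
  haveI : Ring.KrullDimLE 1 (U.presheaf.stalk u) := krullDimLE_of_coheight_le hu.le
  obtain ⟨a, b, hb, rfl⟩ := IsFractionRing.div_surjective (X.presheaf.stalk (f u)) g
  have hb0 : b ≠ 0 := nonZeroDivisors.ne_zero hb
  have ha0 : a ≠ 0 := fun h0 => hg (by rw [h0, map_zero, zero_div])
  let e : X.presheaf.stalk (f u) ≃+* U.presheaf.stalk u := (asIso (f.stalkMap u)).commRingCatIsoToRingEquiv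
  have key : ∀ c : X.presheaf.stalk (f u), c ≠ 0 →
      Ring.ordFrac (U.presheaf.stalk u) (algebraMap _ U.functionField (f.stalkMap u c)) =
        Ring.ordFrac (X.presheaf.stalk (f u)) (algebraMap _ X.functionField c) := fun c hc => by
    have hec : e c ≠ 0 := fun h0 => hc (e.injective (h0.trans (map_zero e).symm))
    rw [show f.stalkMap u c = e c from rfl, Ring.ordFrac_eq_ord _ hec, Ring.ordFrac_eq_ord _ hc,
      Ring.ordMonoidWithZeroHom_eq_ord (mem_nonZeroDivisors_of_ne_zero hec),
      Ring.ordMonoidWithZeroHom_eq_ord (mem_nonZeroDivisors_of_ne_zero hc), length_quotient_ringEquiv]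
  have h2 : Scheme.ordHom u hu (ffMap f (algebraMap _ X.functionField a / algebraMap _ X.functionField b)) =
      Scheme.ordHom (f u) hx (algebraMap _ X.functionField a / algebraMap _ X.functionField b) := by
    rw [map_div₀, map_div₀, map_div₀, ffMap_algebraMap, ffMap_algebraMap]
    show Ring.ordFrac (U.presheaf.stalk u) _ / Ring.ordFrac (U.presheaf.stalk u) _ = _
    rw [key a ha0, key b hb0]
    rfl
  rw [Scheme.ord_eq_ordHom_of_coheight_eq_one hu, Scheme.ord_eq_ordHom_of_coheight_eq_one hx, h2]

end Ref1Lib

end
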